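import Cfsg.Agent.Lib.Perm.CentraliserRing
import Cfsg.Agent.Lib.Characters.Kernel

/-!
# The eigenvalues of the orbitals of a multiplicity-free permutation representation
-/

set_option autoImplicit false
set_option linter.style.haveILetI false
set_option linter.unusedSectionVars false

namespace Cfsg.Agent.PrimeBlock.DoubleDegree

open Finset Module Cfsg.Agent.Characters Cfsg.Agent.Perm.PermModule Cfsg.Agent.Perm.CentraliserRing
open scoped ComplexConjugate Classical

universe u w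

variable {G : Type u} [Group G] [Fintype G] {Ω : Type w} [Fintype Ω] [MulAction G Ω]

/-- The orbitals. -/
abbrev Orb (G : Type u) [Group G] (Ω : Type w) [MulAction G Ω] :=
  MulAction.orbitRel.Quotient G (Ω × Ω)

noncomputable instance : Fintype (Orb G Ω) := Fintype.ofFinite _

/-- The orbital of a pair. -/
def orb (G : Type u) [Group G] {Ω : Type w} [MulAction G Ω] (a b : Ω) : Orb G Ω :=
  Quotient.mk'' (a, b)

theorem orb_smul (g : G) (a b : Ω) : orb G (g • a) (g • b) = orb G a b :=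
  Quotient.sound' ⟨g, rfl⟩

theorem orb_eq {a b a' b' : Ω} (h : orb G a b = orb G a' b') :
    ∃ g : G, g • a' = a ∧ g • b' = b := by
  obtain ⟨g, hg⟩ := Quotient.exact' h
  exact ⟨g, congrArg Prod.fst hg, congrArg Prod.snd hg⟩

theorem exists_orb (u : Orb G Ω) : ∃ a b : Ω, orb G a b = u := by
  induction u using Quotient.inductionOn' with
  | h x => exact ⟨x.1, x.2, rfl⟩

/-- The reversed orbital. -/
def swapOrb (u : Orb G Ω) : Orb G Ω :=
  Quotient.liftOn' u (fun x => orb G x.2 x.1) fun x y ⟨g, hg⟩ => by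
    rw [← show g • y = x from hg, Prod.smul_snd, Prod.smul_fst]
    exact orb_smul g y.2 y.1

theorem swapOrb_orb (a b : Ω) : swapOrb (orb G a b) = orb G b a := rfl

theorem swapOrb_swapOrb (u : Orb G Ω) : swapOrb (swapOrb u) = u := by
  obtain ⟨a, b, rfl⟩ := exists_orb u
  rfl

/-- The number of points sent by `g` along the orbital `u`. -/
noncomputable def cntD (u : Orb G Ω) (g : G) : ℕ := (univ.filter fun c => orb G c (g • c) = u).card

theorem cntD_inv (u : Orb G Ω) (g : G) : cntD (swapOrb u) g = cntD u g⁻¹ := by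
  refine card_bij (fun c _ => g • c) (fun c hc => ?_) (fun _ _ _ _ h => MulAction.injective g h)
    (fun c hc => ⟨g⁻¹ • c, ?_, smul_inv_smul g c⟩)
  · simp only [mem_filter, mem_univ, true_and] at hc ⊢
    rw [inv_smul_smul, ← swapOrb_orb, hc, swapOrb_swapOrb]
  · simp only [mem_filter, mem_univ, true_and] at hc ⊢
    rw [smul_inv_smul, ← swapOrb_orb, hc]

theorem sum_cntD (g : G) : ∑ u : Orb G Ω, cntD u g = Fintype.card Ω := by
  rw [← card_univ, card_eq_sum_card_fiberwise (f := fun c => orb G c (g • c)) (t := univ)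
    fun c _ => mem_univ _]
  rfl

theorem cntD_diag (a : Ω) [MulAction.IsPretransitive G Ω] (g : G) :
    cntD (orb G a a) g = Nat.card (MulAction.fixedBy Ω g) := by
  rw [cntD, Nat.card_eq_fintype_card, Fintype.card_subtype]
  congr 1
  ext c
  simp only [mem_filter, mem_univ, true_and, MulAction.mem_fixedBy]
  refine ⟨fun h => ?_, fun h => ?_⟩
  · obtain ⟨k, h1, h2⟩ := orb_eq h
    rw [← h2, h1]
  · obtain ⟨k, rfl⟩ := MulAction.exists_smul_eq G a c
    rw [h, orb_smul]

theorem cntD_one_zero {u : Orb G Ω} (hu : ∀ a, u ≠ orb G a a) : cntD u (1 : G) = 0 := by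
  rw [cntD, card_eq_zero, filter_eq_empty_iff]
  intro c _ h
  exact hu c (by rw [← h, one_smul])

/-- The operator of an orbital. -/
noncomputable def op (u : Orb G Ω) : (Ω → ℂ) →ₗ[ℂ] (Ω → ℂ) where
  toFun v a := ∑ b, if orb G a b = u then v b else 0
  map_add' v v' := by
    funext a
    simp only [Pi.add_apply, ← sum_add_distrib]
    exact sum_congr rfl fun b _ => by split_ifs <;> simp
  map_smul' c v := by
    funext a
    simp only [RingHom.id_apply, Pi.smul_apply, smul_eq_mul, mul_sum]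
    exact sum_congr rfl fun b _ => by split_ifs <;> simp

theorem op_apply (u : Orb G Ω) (v : Ω → ℂ) (a : Ω) :
    op u v a = ∑ b, if orb G a b = u then v b else 0 := rfl

theorem op_single (u : Orb G Ω) (a b : Ω) :
    op u (Pi.single b 1) a = if orb G a b = u then 1 else 0 := by
  rw [op_apply, sum_eq_single b (fun c _ hc => by simp [Pi.single_eq_of_ne hc])
    fun h => absurd (mem_univ b) h, Pi.single_eq_same]

theorem op_equivariant (u : Orb G Ω) : IsEquivariant (G := G) (op u) := by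
  intro g v
  funext a
  rw [permRep_apply, op_apply, op_apply]
  refine Fintype.sum_equiv (MulAction.toPerm g⁻¹) _ _ fun b => ?_
  rw [MulAction.toPerm_apply, orb_smul, permRep_apply]

theorem trace_eq_sum (S : (Ω → ℂ) →ₗ[ℂ] (Ω → ℂ)) :
    LinearMap.trace ℂ (Ω → ℂ) S = ∑ a, S (Pi.single a 1) a := by
  rw [LinearMap.trace_eq_matrix_trace ℂ (Pi.basisFun ℂ Ω), Matrix.trace]
  simp only [Matrix.diag, LinearMap.toMatrix_apply, Pi.basisFun_apply, Pi.basisFun_repr]

theorem permRep_single (g : G) (a : Ω) :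
    Cfsg.permRep ℂ G Ω g (Pi.single a 1) = Pi.single (g • a) 1 := by
  funext c
  rw [permRep_apply, Pi.single_apply, Pi.single_apply]
  simp only [inv_smul_eq_iff]

theorem trace_op (u : Orb G Ω) (g : G) :
    LinearMap.trace ℂ (Ω → ℂ) (op u ∘ₗ Cfsg.permRep ℂ G Ω g) = (cntD u g : ℂ) := by
  rw [trace_eq_sum, cntD, ← sum_boole]
  exact sum_congr rfl fun a _ => by rw [LinearMap.comp_apply, permRep_single, op_single]

theorem op_injective {u v : Orb G Ω} (h : op u = op v) : u = v := by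
  obtain ⟨a, b, rfl⟩ := exists_orb u
  have h1 := congrArg (fun S : (Ω → ℂ) →ₗ[ℂ] (Ω → ℂ) => S (Pi.single b 1) a) h
  simp only [op_single, if_pos] at h1
  by_contra hne
  rw [if_neg hne] at h1
  exact one_ne_zero h1

/-- The size of the suborbit. -/
noncomputable def kk (u : Orb G Ω) (a : Ω) : ℕ := (univ.filter fun b => orb G a b = u).card

theorem kk_const [MulAction.IsPretransitive G Ω] (u : Orb G Ω) (a a' : Ω) : kk u a = kk u a' := by
  obtain ⟨g, rfl⟩ := MulAction.exists_smul_eq G a a'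
  refine card_bij (fun b _ => g • b) (fun b hb => ?_) (fun _ _ _ _ h => MulAction.injective g h)
    (fun b hb => ⟨g⁻¹ • b, ?_, smul_inv_smul g b⟩)
  · simp only [mem_filter, mem_univ, true_and] at hb ⊢
    rw [orb_smul, hb]
  · simp only [mem_filter, mem_univ, true_and] at hb ⊢
    rw [← orb_smul g, smul_inv_smul, hb]

theorem trace_op_comp (u v : Orb G Ω) (a₀ : Ω) [MulAction.IsPretransitive G Ω] :
    LinearMap.trace ℂ (Ω → ℂ) (op u ∘ₗ op (swapOrb v)) =
      if u = v then (Fintype.card Ω : ℂ) * kk u a₀ else 0 := by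
  have h1 : ∀ a, (op u ∘ₗ op (swapOrb v)) (Pi.single a 1) a =
      ∑ b, if orb G a b = u ∧ orb G a b = v then (1 : ℂ) else 0 := fun a => by
    rw [LinearMap.comp_apply, op_apply]
    refine sum_congr rfl fun b _ => ?_
    rw [op_single, ← swapOrb_orb a b]
    simp only [(Function.Involutive.injective swapOrb_swapOrb).eq_iff]
    rw [← ite_and]
  rw [trace_eq_sum, sum_congr rfl fun a _ => h1 a]
  split_ifs with h
  · subst h
    simp only [and_self, sum_boole]
    rw [sum_congr rfl fun a _ => congrArg (Nat.cast : ℕ → ℂ)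
      (show (univ.filter fun b => orb G a b = u).card = kk u a₀ from kk_const u a a₀),
      sum_const, card_univ, nsmul_eq_mul]
  · exact sum_eq_zero fun a _ => sum_eq_zero fun b _ => if_neg fun ⟨e1, e2⟩ => h (e1.symm.trans e2)

/-- The intersection numbers. -/
theorem exists_mul (u v : Orb G Ω) :
    ∃ x : Orb G Ω → ℕ, op u ∘ₗ op v = ∑ z, (x z : ℂ) • op z := by
  choose A B hAB using exists_orb (G := G) (Ω := Ω)
  refine ⟨fun z => (univ.filter fun c => orb G (A z) c = u ∧ orb G c (B z) = v).card,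
    (Pi.basisFun ℂ Ω).ext fun b => funext fun a => ?_⟩
  simp only [Pi.basisFun_apply, LinearMap.comp_apply, LinearMap.sum_apply, LinearMap.smul_apply,
    Finset.sum_apply, Pi.smul_apply, op_single, smul_eq_mul, mul_ite, mul_one, mul_zero, sum_ite_eq,
    mem_univ, if_true]
  rw [op_apply]
  simp only [op_single]
  obtain ⟨g, h1, h2⟩ := orb_eq (hAB (orb G a b))
  rw [show (∑ c, if orb G a c = u then (if orb G c b = v then (1 : ℂ) else 0) else 0) =
    ((univ.filter fun c => orb G a c = u ∧ orb G c b = v).card : ℂ) by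
      rw [← sum_boole]; exact sum_congr rfl fun c _ => by split_ifs <;> simp_all]
  rw [← h1, ← h2]
  norm_cast
  refine card_bij (fun c _ => g • c) (fun c hc => ?_) (fun _ _ _ _ h => MulAction.injective g h)
    (fun c hc => ⟨g⁻¹ • c, ?_, smul_inv_smul g c⟩)
  · simp only [mem_filter, mem_univ, true_and] at hc ⊢
    rwa [orb_smul, orb_smul]
  · simp only [mem_filter, mem_univ, true_and] at hc ⊢
    rw [← orb_smul g, smul_inv_smul, ← orb_smul g (g⁻¹ • c), smul_inv_smul]
    exact hc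

/-- The constituents. -/
abbrev Cst (G : Type u) [Group G] [Fintype G] (Ω : Type w) [MulAction G Ω] :=
  {χ : Cfsg.IrrCharacter G // Cfsg.classInner (permChar G Ω) (χ : G → ℂ) ≠ 0}

noncomputable instance : Fintype (Cst G Ω) := Fintype.ofFinite _

/-- An irreducible subspace with the given character. -/
noncomputable def sub (χ : Cst G Ω) : Submodule ℂ (Ω → ℂ) :=
  (exists_sub_of_ne_zero χ.1.2 χ.2).choose

theorem sub_spec (χ : Cst G Ω) : ∃ hU : IsInvariantUnder (Cfsg.permRep ℂ G Ω) (sub χ),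
    (subRep _ _ hU).IsIrreducible ∧ subChar (sub χ) hU = (χ.1 : G → ℂ) :=
  (exists_sub_of_ne_zero χ.1.2 χ.2).choose_spec

theorem sub_isIrr (χ : Cst G Ω) : IsIrr G (sub χ) :=
  ⟨(sub_spec χ).choose, (sub_spec χ).choose_spec.1⟩

variable (hmf : IsMultFree G Ω)

/-- The eigenvalue of an orbital on a constituent. -/
noncomputable def lam (u : Orb G Ω) (χ : Cst G Ω) : ℂ :=
  (exists_scalar hmf (sub_isIrr χ) (op_equivariant u)).choose

theorem lam_spec (u : Orb G Ω) (χ : Cst G Ω) : ∀ v ∈ sub χ, op u v = lam hmf u χ • v :=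
  (exists_scalar hmf (sub_isIrr χ) (op_equivariant u)).choose_spec

theorem isoOp_sub (χ : Cst G Ω) {v : Ω → ℂ} (hv : v ∈ sub χ) (ψ : Cst G Ω) :
    isoOp Ω (ψ.1 : G → ℂ) v = if χ = ψ then v else 0 := by
  obtain ⟨hU, hirr, hch⟩ := sub_spec χ
  split_ifs with h
  · subst h
    rw [← hch]
    exact isoOp_apply_self hirr hv
  · exact isoOp_apply_ne hirr ψ.1.2 (fun e => h (Subtype.ext (Subtype.ext (hch.symm.trans e)))) hv

include hmf in
/-- Maps agreeing on the chosen subspaces are equal. -/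
theorem ext_sub {S T : (Ω → ℂ) →ₗ[ℂ] (Ω → ℂ)} (h : ∀ χ : Cst G Ω, ∀ v ∈ sub χ, S v = T v) :
    S = T := by
  refine ext_irr (G := G) fun U hU v hv => ?_
  obtain ⟨hUi, hirr⟩ := hU
  have hne : Cfsg.classInner (permChar G Ω) (subChar U hUi) ≠ 0 := by
    rw [mult_one_of_multFree hmf hirr]; exact one_ne_zero
  obtain ⟨hU', hirr', hch⟩ := sub_spec (⟨⟨_, isIrrCharacter_subChar hirr⟩, hne⟩ : Cst G Ω)
  have e := eq_of_subChar_eq hirr hirr' (mult_one_of_multFree hmf hirr) hch.symm
  exact h ⟨⟨_, isIrrCharacter_subChar hirr⟩, hne⟩ v (e ▸ hv)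

theorem op_eq (u : Orb G Ω) :
    op u = ∑ χ : Cst G Ω, lam hmf u χ • isoOp Ω (χ.1 : G → ℂ) := by
  refine ext_sub hmf fun χ v hv => ?_
  simp only [LinearMap.sum_apply, LinearMap.smul_apply, isoOp_sub χ hv, smul_ite, smul_zero,
    sum_ite_eq, mem_univ, if_true]
  exact lam_spec hmf u χ v hv

theorem op_comp_eq (u v : Orb G Ω) :
    op u ∘ₗ op v = ∑ χ : Cst G Ω, (lam hmf u χ * lam hmf v χ) • isoOp Ω (χ.1 : G → ℂ) := by
  refine ext_sub hmf fun χ w hw => ?_
  simp only [LinearMap.sum_apply, LinearMap.smul_apply, LinearMap.comp_apply, isoOp_sub χ hw,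
    smul_ite, smul_zero, sum_ite_eq, mem_univ, if_true]
  rw [lam_spec hmf v χ w hw, map_smul, lam_spec hmf u χ w hw, smul_smul, mul_comm]

include hmf in
theorem trace_isoOp (χ : Cst G Ω) (g : G) :
    LinearMap.trace ℂ (Ω → ℂ) (isoOp Ω (χ.1 : G → ℂ) ∘ₗ Cfsg.permRep ℂ G Ω g) =
      (χ.1 : G → ℂ) g := by
  obtain ⟨hU, hirr, hch⟩ := sub_spec χ
  have hle : LinearMap.range (isoOp Ω (χ.1 : G → ℂ)) ≤ sub χ := by
    rintro _ ⟨v, rfl⟩
    have : (sub χ).mkQ ∘ₗ isoOp Ω (χ.1 : G → ℂ) = 0 := by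
      refine ext_irr (G := G) fun U hU' w hw => ?_
      obtain ⟨hUi, hirr'⟩ := hU'
      rw [LinearMap.comp_apply, LinearMap.zero_apply, Submodule.mkQ_apply, Submodule.Quotient.mk_eq_zero]
      by_cases he : subChar U hUi = (χ.1 : G → ℂ)
      · have e := eq_of_subChar_eq hirr' hirr (mult_one_of_multFree hmf hirr') (he.trans hch.symm)
        rw [← he, isoOp_apply_self hirr' hw, ← e]
        exact hw
      · rw [isoOp_apply_ne hirr' χ.1.2 he hw]
        exact zero_mem _
    exact (Submodule.Quotient.mk_eq_zero _).1 (LinearMap.congr_fun this v)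
  set pr : (Ω → ℂ) →ₗ[ℂ] sub χ := (isoOp Ω (χ.1 : G → ℂ)).codRestrict (sub χ)
    fun v => hle ⟨v, rfl⟩ with hpr
  rw [show isoOp Ω (χ.1 : G → ℂ) ∘ₗ Cfsg.permRep ℂ G Ω g =
    (sub χ).subtype ∘ₗ (pr ∘ₗ Cfsg.permRep ℂ G Ω g) from rfl, LinearMap.trace_comp_comm', ← hch]
  congr 1
  refine LinearMap.ext fun v => Subtype.ext ?_
  show isoOp Ω (χ.1 : G → ℂ) (Cfsg.permRep ℂ G Ω g (v : Ω → ℂ)) = _
  rw [isoOp_sub χ (hU g _ v.2) χ, if_pos rfl]
  rfl

theorem cntD_eq (u : Orb G Ω) (g : G) :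
    (cntD u g : ℂ) = ∑ χ : Cst G Ω, lam hmf u χ * (χ.1 : G → ℂ) g := by
  rw [← trace_op, op_eq hmf u, show (∑ χ : Cst G Ω, lam hmf u χ • isoOp Ω (χ.1 : G → ℂ)) ∘ₗ
      Cfsg.permRep ℂ G Ω g = ∑ χ : Cst G Ω, (lam hmf u χ • isoOp Ω (χ.1 : G → ℂ)) ∘ₗ
        Cfsg.permRep ℂ G Ω g from LinearMap.ext fun v => by simp [LinearMap.sum_apply], map_sum]
  refine sum_congr rfl fun χ _ => ?_
  rw [LinearMap.smul_comp, map_smul, trace_isoOp hmf, smul_eq_mul]

include hmf in
/-- Functions on the constituents giving the same class function are equal. -/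
theorem coeff_ext {c c' : Cst G Ω → ℂ}
    (h : ∀ g : G, ∑ χ, c χ * (χ.1 : G → ℂ) g = ∑ χ, c' χ * (χ.1 : G → ℂ) g) : c = c' := by
  funext ψ
  have key : ∀ d : Cst G Ω → ℂ,
      Cfsg.classInner (∑ χ, d χ • (χ.1 : G → ℂ)) (ψ.1 : G → ℂ) = d ψ := fun d => by
    simp only [classInner_sum_left, classInner_smul_left, classInner_irr, mul_ite, mul_one, mul_zero]
    rw [sum_eq_single ψ (fun χ _ hχ => if_neg fun e => hχ (Subtype.ext e))
      fun h => absurd (mem_univ ψ) h, if_pos rfl]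
  rw [← key c, ← key c']
  congr 1
  funext g
  simp only [Finset.sum_apply, Pi.smul_apply, smul_eq_mul]
  exact h g

theorem lam_swap (u : Orb G Ω) (χ : Cst G Ω) :
    lam hmf (swapOrb u) χ = conj (lam hmf u χ) := by
  refine congrFun (coeff_ext hmf (c := lam hmf (swapOrb u)) (c' := fun χ => conj (lam hmf u χ))
    fun g => ?_) χ
  rw [← cntD_eq hmf, cntD_inv, ← Complex.conj_natCast (cntD u g⁻¹), cntD_eq hmf, map_sum]
  refine sum_congr rfl fun ψ _ => ?_
  rw [map_mul, char_inv (irr_isCharacter ψ.1), Complex.conj_conj]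

theorem lam_diag [MulAction.IsPretransitive G Ω] (a : Ω) (χ : Cst G Ω) :
    lam hmf (orb G a a) χ = 1 := by
  obtain ⟨hU, hirr, -⟩ := sub_spec χ
  haveI := hirr
  haveI := nontrivial_of_isIrreducible (subRep _ (sub χ) hU)
  obtain ⟨v, hv⟩ := exists_ne (0 : sub χ)
  have h := lam_spec hmf (orb G a a) χ v v.2
  have hid : op (orb G a a) (v : Ω → ℂ) = v := by
    funext c
    obtain ⟨g, rfl⟩ := MulAction.exists_smul_eq G a c
    rw [op_apply, sum_eq_single (g • a) (fun b _ hb => if_neg fun e => ?_)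
      fun h => absurd (mem_univ _) h, if_pos (orb_smul g a a)]
    obtain ⟨k, h1, h2⟩ := orb_eq e
    exact hb (h2 ▸ h1)
  rw [hid] at h
  by_contra hne
  exact hv (Subtype.ext (by
    have : (lam hmf (orb G a a) χ - 1) • (v : Ω → ℂ) = 0 := by rw [sub_smul, one_smul, ← h, sub_self]
    exact (smul_eq_zero.1 this).resolve_left (sub_ne_zero.2 hne)))

theorem lam_inj {u v : Orb G Ω} (h : ∀ χ, lam hmf u χ = lam hmf v χ) : u = v :=
  op_injective (by rw [op_eq hmf, op_eq hmf]; exact sum_congr rfl fun χ _ => by rw [h χ])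

theorem lam_mul (u v : Orb G Ω) : ∃ x : Orb G Ω → ℕ,
    ∀ χ : Cst G Ω, lam hmf u χ * lam hmf v χ = ∑ z, (x z : ℂ) * lam hmf z χ := by
  obtain ⟨x, hx⟩ := exists_mul u v
  refine ⟨x, fun χ => ?_⟩
  obtain ⟨hU, hirr, -⟩ := sub_spec χ
  haveI := hirr
  haveI := nontrivial_of_isIrreducible (subRep _ (sub χ) hU)
  obtain ⟨w, hw⟩ := exists_ne (0 : sub χ)
  have h := LinearMap.congr_fun hx (w : Ω → ℂ)
  simp only [LinearMap.comp_apply, LinearMap.sum_apply, LinearMap.smul_apply, lam_spec hmf _ χ _ w.2,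
    map_smul, smul_smul, ← sum_smul] at h
  rw [mul_comm (lam hmf v χ)] at h
  by_contra hne
  exact hw (Subtype.ext ((smul_eq_zero.1 (by rw [sub_smul, h, sub_self] :
    (lam hmf u χ * lam hmf v χ - ∑ z, (x z : ℂ) * lam hmf z χ) • (w : Ω → ℂ) = 0)).resolve_left
      (sub_ne_zero.2 hne)))

/-- First orthogonality relation. -/
theorem lam_orth [MulAction.IsPretransitive G Ω] (a₀ : Ω) (u v : Orb G Ω) :
    ∑ χ : Cst G Ω, (χ.1 : G → ℂ) 1 * (lam hmf u χ * conj (lam hmf v χ)) =
      if u = v then (Fintype.card Ω : ℂ) * kk u a₀ else 0 := by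
  rw [← trace_op_comp u v a₀, op_comp_eq hmf, map_sum]
  refine sum_congr rfl fun χ _ => ?_
  have h := trace_isoOp hmf χ 1
  rw [map_one, Module.End.one_eq_id, LinearMap.comp_id] at h
  rw [map_smul, h, lam_swap hmf, smul_eq_mul]
  ring

theorem card_orb_eq_inner (G : Type u) [Group G] [Fintype G] (Ω : Type w) [Fintype Ω] [MulAction G Ω] :
    Cfsg.classInner (permChar G Ω) (permChar G Ω) = (Fintype.card (Orb G Ω) : ℂ) := by
  have h := MulAction.sum_card_fixedBy_eq_card_orbits_mul_card_group G (Ω × Ω)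
  rw [classInner_def]
  have h1 : ∀ g : G, permChar G Ω g * conj (permChar G Ω g) =
      (Fintype.card (MulAction.fixedBy (Ω × Ω) g) : ℂ) := fun g => by
    simp only [permChar, Complex.conj_natCast, ← Nat.cast_mul, ← Nat.card_prod,
      ← Nat.card_eq_fintype_card]
    exact congrArg Nat.cast (Nat.card_congr
      { toFun := fun x => ⟨(x.1.1, x.2.1), Prod.ext x.1.2 x.2.2⟩
        invFun := fun x => (⟨x.1.1, congrArg Prod.fst x.2⟩, ⟨x.1.2, congrArg Prod.snd x.2⟩)
        left_inv := fun _ => rfl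
        right_inv := fun _ => rfl })
  rw [sum_congr rfl fun g _ => h1 g, ← Nat.cast_sum, h, Nat.cast_mul, ← Nat.card_eq_fintype_card (α := G),
    mul_comm, mul_assoc, mul_inv_cancel₀ natCard_ne_zero, mul_one]

include hmf in
theorem card_cst : Fintype.card (Cst G Ω) = Fintype.card (Orb G Ω) := by
  haveI := Fintype.ofFinite (Cfsg.IrrCharacter G)
  have hc : Cfsg.IsClassFunction G (permChar G Ω) := by
    rw [← character_permRep]; exact rep_isClassFunction _
  have h := classInner_eq_sum (permChar G Ω) hc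
  rw [card_orb_eq_inner] at h
  have h1 : ∀ χ : Cfsg.IrrCharacter G,
      Cfsg.classInner (permChar G Ω) (χ : G → ℂ) * Cfsg.classInner (χ : G → ℂ) (permChar G Ω) =
        if Cfsg.classInner (permChar G Ω) (χ : G → ℂ) ≠ 0 then 1 else 0 := fun χ => by
    rw [classInner_conj_symm (permChar G Ω) (χ : G → ℂ)]
    rcases hmf _ χ.2 with e | e <;> simp [e]
  rw [sum_congr rfl fun χ _ => h1 χ, sum_boole, ← Fintype.card_subtype] at h
  rw [show Fintype.card {χ : Cfsg.IrrCharacter G //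
      Cfsg.classInner (permChar G Ω) (χ : G → ℂ) ≠ 0} = Fintype.card (Cst G Ω) from
    Fintype.card_congr (Equiv.refl _)] at h
  exact_mod_cast h.symm

/-- Second orthogonality relation, diagonal case. -/
theorem lam_orth_col [MulAction.IsPretransitive G Ω] (a₀ : Ω) (χ : Cst G Ω) :
    (χ.1 : G → ℂ) 1 * ∑ u : Orb G Ω, lam hmf u χ * conj (lam hmf u χ) / (kk u a₀ : ℂ) =
      (Fintype.card Ω : ℂ) := by
  have hn : (Fintype.card Ω : ℂ) ≠ 0 := Nat.cast_ne_zero.2 (Fintype.card_pos_iff.2 ⟨a₀⟩).ne'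
  have hk : ∀ u : Orb G Ω, (kk u a₀ : ℂ) ≠ 0 := fun u => by
    obtain ⟨a, b, rfl⟩ := exists_orb u
    rw [kk_const _ a₀ a, Nat.cast_ne_zero, kk, card_ne_zero]
    exact ⟨b, by simp⟩
  let M : Matrix (Orb G Ω) (Cst G Ω) ℂ := fun u χ => lam hmf u χ
  let N : Matrix (Cst G Ω) (Orb G Ω) ℂ := fun χ u =>
    (χ.1 : G → ℂ) 1 * conj (lam hmf u χ) / ((Fintype.card Ω : ℂ) * kk u a₀)
  have hMN : M * N = 1 := by
    ext u v
    rw [Matrix.mul_apply, Matrix.one_apply]
    simp only [M, N, mul_div_assoc', ← sum_div]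
    rw [show ∑ χ : Cst G Ω, lam hmf u χ * ((χ.1 : G → ℂ) 1 * conj (lam hmf v χ)) =
      ∑ χ : Cst G Ω, (χ.1 : G → ℂ) 1 * (lam hmf u χ * conj (lam hmf v χ)) from
        sum_congr rfl fun χ _ => by ring, lam_orth hmf a₀]
    split_ifs with h
    · subst h; rw [div_self (mul_ne_zero hn (hk _))]
    · rw [zero_div]
  have hNM := (Matrix.mul_eq_one_comm_of_equiv (Fintype.equivOfCardEq (card_cst hmf).symm)).1 hMN
  have h := congrFun (congrFun hNM χ) χ
  rw [Matrix.mul_apply, Matrix.one_apply_eq] at h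
  simp only [M, N] at h
  calc _ = (Fintype.card Ω : ℂ) * ∑ u : Orb G Ω,
        (χ.1 : G → ℂ) 1 * conj (lam hmf u χ) / ((Fintype.card Ω : ℂ) * kk u a₀) * lam hmf u χ := by
        rw [mul_sum, mul_sum]
        exact sum_congr rfl fun u _ => by have := hk u; field_simp
    _ = (Fintype.card Ω : ℂ) := by rw [h, mul_one]

end Cfsg.Agent.PrimeBlock.DoubleDegree
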