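import Cfsg.Agent.Lib.PrimeBlock.DoubleDegree.Table
import Cfsg.Agent.Lib.Characters.Inner
import Cfsg.Prelude.Def_Characters

/-!
# Fourier inversion on `ZMod p` and residue multiplicities of characters
-/

set_option autoImplicit false
set_option linter.style.haveILetI false
set_option linter.unusedSectionVars false

namespace Cfsg.Agent.PrimeBlock.DoubleDegree

open Finset Module Cfsg.Agent.Characters
open scoped ComplexConjugate Classical

universe u

variable {p : ℕ} [Fact p.Prime]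

/-- The standard character of `ZMod p`. -/
noncomputable abbrev ψ (p : ℕ) [Fact p.Prime] : AddChar (ZMod p) ℂ := ZMod.stdAddChar

theorem sum_ψ (b : ZMod p) : ∑ x : ZMod p, ψ p (x * b) = if b = 0 then (p : ℂ) else 0 := by
  rw [AddChar.sum_mulShift b (ZMod.isPrimitive_stdAddChar p)]
  split_ifs <;> simp [ZMod.card]

theorem conj_ψ (a : ZMod p) : conj (ψ p a) = ψ p (-a) := by
  rw [AddChar.starComp_apply (by rw [ZMod.ringChar_zmod_n]; exact (Fact.out : p.Prime).pos),
    AddChar.map_neg_eq_inv, AddChar.inv_apply']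

/-- Inversion. -/
theorem inv_ft {F : ZMod p → ℂ} {Γ : ZMod p → ℂ} (h : ∀ m, F m = ∑ r, Γ r * ψ p (r * m))
    (r : ZMod p) : (p : ℂ) * Γ r = ∑ m, F m * ψ p (-(r * m)) := by
  simp only [h, sum_mul, mul_assoc, ← AddChar.map_add_eq_mul]
  rw [sum_comm]
  simp only [← mul_sum, show ∀ s m : ZMod p, s * m + -(r * m) = m * (s - r) from fun s m => by ring,
    sum_ψ, mul_ite, mul_zero, sub_eq_zero, sum_ite_eq', mem_univ, if_true, mul_comm (p : ℂ)]

theorem ft_ext {Γ Γ' : ZMod p → ℂ}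
    (h : ∀ m : ZMod p, ∑ r, Γ r * ψ p (r * m) = ∑ r, Γ' r * ψ p (r * m)) : Γ = Γ' :=
  funext fun r => mul_left_cancel₀ (Nat.cast_ne_zero.2 (Fact.out : p.Prime).ne_zero)
    ((inv_ft (fun _ => rfl) r).trans ((sum_congr rfl fun m _ => by rw [h m]).trans
      (inv_ft (fun _ => rfl) r).symm))

/-- Parseval. -/
theorem parseval {F : ZMod p → ℂ} {Γ : ZMod p → ℂ} (h : ∀ m, F m = ∑ r, Γ r * ψ p (r * m)) :
    ∑ m, F m * conj (F m) = (p : ℂ) * ∑ r, Γ r * conj (Γ r) := by
  calc ∑ m, F m * conj (F m) = ∑ m, ∑ r, F m * (conj (Γ r) * ψ p (-(r * m))) :=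
        sum_congr rfl fun m _ => by
          conv_lhs => arg 2; rw [h m]
          rw [map_sum, mul_sum]
          exact sum_congr rfl fun r _ => by rw [map_mul, conj_ψ]
    _ = ∑ r, conj (Γ r) * ∑ m, F m * ψ p (-(r * m)) := by
        rw [sum_comm]
        exact sum_congr rfl fun r _ => by
          rw [mul_sum]; exact sum_congr rfl fun m _ => by ring
    _ = _ := by
        rw [mul_sum]
        exact sum_congr rfl fun r _ => by rw [← inv_ft h r]; ring

/-- An integral function with transform supported at `0` is constant. -/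
theorem const_of_ft {g : ZMod p → ℤ}
    (h : ∀ r : ZMod p, r ≠ 0 → ∑ m, (g m : ℂ) * ψ p (-(r * m)) = 0) (m : ZMod p) : g m = g 0 := by
  have key : ∀ m, (p : ℂ) * (g m : ℂ) = ∑ j, (g j : ℂ) := fun m => by
    have h1 : ∑ r, (∑ j, (g j : ℂ) * ψ p (-(r * j))) * ψ p (r * m) = (p : ℂ) * (g m : ℂ) := by
      simp only [sum_mul, mul_assoc, ← AddChar.map_add_eq_mul]
      rw [sum_comm]
      simp only [← mul_sum, show ∀ r j : ZMod p, -(r * j) + r * m = r * (m - j) from fun r j => by ring,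
        sum_ψ, mul_ite, mul_zero, sub_eq_zero, sum_ite_eq, mem_univ, if_true, mul_comm (p : ℂ)]
    rw [← h1, sum_eq_single 0 (fun r _ hr => by rw [h r hr, zero_mul]) fun h => absurd (mem_univ _) h]
    simp
  have := (key m).trans (key 0).symm
  exact_mod_cast mul_left_cancel₀ (Nat.cast_ne_zero.2 (Fact.out : p.Prime).ne_zero) this

theorem ft_dlt (r : ZMod p) : ∑ m, (dlt p m : ℂ) * ψ p (-(r * m)) = 1 := by
  rw [sum_eq_single 0 (fun m _ hm => by simp [dlt, hm]) fun h => absurd (mem_univ _) h]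
  simp [dlt]

theorem ft_conv (f g : ZMod p → ℤ) (r : ZMod p) :
    ∑ m, (conv f g m : ℂ) * ψ p (-(r * m)) =
      (∑ m, (f m : ℂ) * ψ p (-(r * m))) * ∑ m, (g m : ℂ) * ψ p (-(r * m)) := by
  simp only [conv, Int.cast_sum, Int.cast_mul, sum_mul]
  rw [sum_comm]
  refine sum_congr rfl fun a _ => ?_
  rw [mul_sum]
  refine Fintype.sum_equiv (Equiv.subRight a) _ _ fun m => ?_
  rw [Equiv.subRight_apply, show -(r * m) = -(r * a) + -(r * (m - a)) by ring, AddChar.map_add_eq_mul]
  ring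

variable {G : Type u} [Group G] [Finite G]

theorem ψ_one_primitive : IsPrimitiveRoot (ψ p 1) p := by
  have h1 : ψ p 1 ^ p = 1 := by
    rw [← AddChar.map_nsmul_eq_pow, nsmul_one, ZMod.natCast_self, AddChar.map_zero_eq_one]
  have h2 : ψ p 1 ≠ 1 := fun h => one_ne_zero (α := ZMod p)
    (ZMod.injective_stdAddChar (h.trans (AddChar.map_zero_eq_one _).symm))
  exact IsPrimitiveRoot.iff_orderOf.2 (orderOf_eq_prime h1 h2)

/-- The residues of the eigenvalues at an element of order `p`. -/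
theorem exists_res {χ : G → ℂ} (hχ : Cfsg.IsCharacter G χ) {x : G} (hx : orderOf x = p) :
    ∃ μ : ZMod p → ℕ, ∀ j : ZMod p, χ (x ^ j.val) = ∑ r, (μ r : ℂ) * ψ p (r * j) := by
  obtain ⟨n, ρ, rfl⟩ := hχ
  obtain ⟨w, hw, hk⟩ := exists_rootsOfUnity_sum ρ x
  have hr : ∀ i, ∃ r : ZMod p, ψ p r = w i := fun i => by
    obtain ⟨e, -, he⟩ := (ψ_one_primitive (p := p)).eq_pow_of_pow_eq_one (ξ := w i) (hx ▸ hw i)
    exact ⟨(e : ZMod p), by rw [← he, ← nsmul_one, AddChar.map_nsmul_eq_pow]⟩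
  choose r hr using hr
  refine ⟨fun s => (univ.filter fun i => r i = s).card, fun j => ?_⟩
  rw [hk, ← sum_fiberwise univ r fun i => w i ^ j.val]
  refine sum_congr rfl fun s _ => ?_
  rw [sum_congr rfl fun i hi => show w i ^ j.val = ψ p (s * j) by
    rw [← (mem_filter.1 hi).2, ← hr i, ← AddChar.map_nsmul_eq_pow, nsmul_eq_mul, ZMod.natCast_zmod_val,
      mul_comm], sum_const, nsmul_eq_mul]

/-- The residue multiplicities of an irreducible character. -/
noncomputable def res {x : G} (hx : orderOf x = p) (χ : Cfsg.IrrCharacter G) : ZMod p → ℕ :=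
  (exists_res (irr_isCharacter χ) hx).choose

theorem res_spec {x : G} (hx : orderOf x = p) (χ : Cfsg.IrrCharacter G) (j : ZMod p) :
    (χ : G → ℂ) (x ^ j.val) = ∑ r, (res hx χ r : ℂ) * ψ p (r * j) :=
  (exists_res (irr_isCharacter χ) hx).choose_spec j

theorem res_unique {x : G} (hx : orderOf x = p) (χ : Cfsg.IrrCharacter G) {μ : ZMod p → ℕ}
    (h : ∀ j : ZMod p, (χ : G → ℂ) (x ^ j.val) = ∑ r, (μ r : ℂ) * ψ p (r * j)) (r : ZMod p) :
    res hx χ r = μ r := by
  exact_mod_cast congrFun (ft_ext (Γ := fun r => (res hx χ r : ℂ)) (Γ' := fun r => (μ r : ℂ))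
    fun m => (res_spec hx χ m).symm.trans (h m)) r

theorem deg_eq_sum_res {x : G} (hx : orderOf x = p) (χ : Cfsg.IrrCharacter G) :
    (χ : G → ℂ) 1 = (∑ r, res hx χ r : ℕ) := by
  have := res_spec hx χ 0
  rw [ZMod.val_zero, pow_zero] at this
  rw [this, Nat.cast_sum]
  exact sum_congr rfl fun r _ => by rw [mul_zero, AddChar.map_zero_eq_one, mul_one]

theorem res_triv {x : G} (hx : orderOf x = p) (r : ZMod p) :
    res hx (trivIrr G) r = if r = 0 then 1 else 0 :=
  res_unique hx _ (μ := fun r => if r = 0 then 1 else 0) (fun j => by simp [trivIrr_coe]) r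

end Cfsg.Agent.PrimeBlock.DoubleDegree
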