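import Cfsg.Agent.Lib.PrimeBlock.DoubleDegree.Orbitals
import Cfsg.Agent.Lib.Perm.Basic

/-!
# Wielandt's theorem on primitive groups of degree `2 p`
-/

set_option autoImplicit false
set_option linter.style.haveILetI false
set_option linter.unusedSectionVars false

namespace Cfsg.Agent.PrimeBlock.DoubleDegree

open Finset
open scoped Classical

universe u w

variable {p : ℕ} [Fact p.Prime]

/-- Orbits of a point stabiliser and orbitals. -/
theorem natCard_suborbits {G : Type u} [Group G] [Fintype G] {Ω : Type w} [Fintype Ω]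
    [MulAction G Ω] [MulAction.IsPretransitive G Ω] (a : Ω) :
    Nat.card (MulAction.orbitRel.Quotient (MulAction.stabilizer G a) Ω) = Nat.card (Orb G Ω) := by
  refine Nat.card_eq_of_bijective
    (fun q => Quotient.liftOn' q (fun b => orb G a b) fun b b' ⟨k, hk⟩ => by
      rw [← show (k : G) • b' = b from hk]
      conv_lhs => arg 2; rw [← show (k : G) • a = a from k.2]
      exact orb_smul _ _ _) ⟨fun q q' => ?_, fun u => ?_⟩
  · induction q using Quotient.inductionOn' with
    | h b =>
      induction q' using Quotient.inductionOn' with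
      | h b' =>
        intro h
        obtain ⟨g, h1, h2⟩ := orb_eq (show orb G a b = orb G a b' from h)
        exact Quotient.sound' ⟨⟨g, h1⟩, h2⟩
  · obtain ⟨c, d, rfl⟩ := exists_orb u
    obtain ⟨g, hg⟩ := MulAction.exists_smul_eq G c a
    exact ⟨Quotient.mk'' (g • d), by
      show orb G a (g • d) = _
      rw [← hg, orb_smul]⟩

theorem natCard_orbit {G : Type u} [Group G] [Fintype G] {Ω : Type w} [Fintype Ω]
    [MulAction G Ω] (a b : Ω) :
    Nat.card (MulAction.orbit (MulAction.stabilizer G a) b) = kk (orb G a b) a := by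
  rw [kk, Nat.card_eq_fintype_card, ← Set.toFinset_card]
  congr 1
  ext c
  simp only [Set.mem_toFinset, mem_filter, mem_univ, true_and]
  refine ⟨fun ⟨k, hk⟩ => ?_, fun h => ?_⟩
  · rw [← show (k : G) • b = c from hk]
    conv_lhs => arg 2; rw [← show (k : G) • a = a from k.2]
    exact orb_smul _ _ _
  · obtain ⟨g, h1, h2⟩ := orb_eq h
    exact ⟨⟨g, h1⟩, h2⟩

/-- Two orbitals: double transitivity. -/
theorem two_pretransitive {G : Type u} [Group G] [Fintype G] {Ω : Type w} [Fintype Ω]
    [MulAction G Ω] (h : Fintype.card (Orb G Ω) = 2) :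
    MulAction.IsMultiplyPretransitive G Ω 2 := by
  refine MulAction.is_two_pretransitive_iff.2 fun {a b c d} hab hcd => ?_
  have hne : ∀ {x y z : Ω}, x ≠ y → orb G x y ≠ orb G z z := fun {x y z} hxy e => by
    obtain ⟨g, h1, h2⟩ := orb_eq e
    exact hxy (h1.symm.trans h2)
  by_contra hno
  have h1 : orb G a b ≠ orb G c d := fun e => hno (orb_eq e.symm)
  have h3 : ({orb G a b, orb G c d, orb G a a} : Finset (Orb G Ω)).card = 3 :=
    card_eq_three.2 ⟨_, _, _, h1, hne hab, hne hcd, rfl⟩
  have := card_le_univ ({orb G a b, orb G c d, orb G a a} : Finset (Orb G Ω))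
  omega

theorem Setup.conclusion {G : Type u} [Group G] [Fintype G] {Ω : Type w} [Fintype Ω]
    [MulAction G Ω] (S : Setup p G Ω) :
    MulAction.IsMultiplyPretransitive G Ω 2 ∨ ∃ a : ℕ, 0 < a ∧ p = 2 * a ^ 2 + 2 * a + 1 ∧
      ∀ a₀ : Ω, Nat.card (MulAction.orbitRel.Quotient (MulAction.stabilizer G a₀) Ω) = 3 ∧
        ∀ b : Ω, b ≠ a₀ → Nat.card (MulAction.orbit (MulAction.stabilizer G a₀) b) = a * (2 * a + 1) ∨
          Nat.card (MulAction.orbit (MulAction.stabilizer G a₀) b) = (a + 1) * (2 * a + 1) := by
  haveI := S.pretrans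
  rcases S.res_beta_one_or_two with hi | hi
  · right
    obtain ⟨a, ha, hp, h2, hk⟩ := (S.table hi).conclusion
    rw [Fintype.card_subtype_compl, Fintype.card_subtype_eq] at h2
    refine ⟨a, ha, hp, fun a₀ => ⟨?_, fun b hb => ?_⟩⟩
    · rw [natCard_suborbits, Nat.card_eq_fintype_card]
      omega
    · have hu : orb G a₀ b ≠ S.diag := fun e => by
        obtain ⟨g, h1, h2⟩ := orb_eq e
        exact hb (h2.symm.trans h1)
      have := hk ⟨orb G a₀ b, hu⟩
      rw [natCard_orbit, kk_const _ a₀ S.pt]
      exact this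
  · exact Or.inl (two_pretransitive (S.orb_two hi))

/-- A fixed-point-free element of order `p`, unless the group is doubly transitive. -/
theorem exists_setup {α : Type w} [Fintype α] [DecidableEq α] (hα : Fintype.card α = 2 * p)
    (G : Subgroup (Equiv.Perm α)) (hG : MulAction.IsPreprimitive G α) :
    MulAction.IsMultiplyPretransitive G α 2 ∨ Nonempty (Setup p G α) := by
  have hp : p.Prime := Fact.out
  haveI := hG
  haveI : MulAction.IsPretransitive G α := hG.toIsPretransitive
  have hcard : Nat.card α = 2 * p := by rw [Nat.card_eq_fintype_card, hα]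
  have mk : ∀ x : G, orderOf x = p → (∀ c : α, x • c ≠ c) → Nonempty (Setup p G α) :=
    fun x hx hf => ⟨⟨x, hp, hx, hf, hG, inferInstance, hcard⟩⟩
  obtain ⟨a⟩ : Nonempty α := Fintype.card_pos_iff.1 (by rw [hα]; have := hp.pos; omega)
  have hdG : 2 * p ∣ Nat.card G := by
    rw [← hcard, ← MulAction.index_stabilizer_of_transitive G a]
    exact Subgroup.index_dvd_card _
  by_cases hp2 : p = 2
  · -- a central element of a transitive Sylow subgroup
    subst hp2
    obtain ⟨P⟩ : Nonempty (Sylow 2 G) := inferInstance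
    haveI := Perm.Basic.sylow_isPretransitive (f := 2) (by rw [hcard]; norm_num) P
    haveI : Nontrivial (P : Subgroup G) := by
      rw [← Finite.one_lt_card_iff_nontrivial, P.card_eq_multiplicity]
      exact one_lt_pow₀ one_lt_two
        ((Fact.out : Nat.Prime 2).factorization_pos_of_dvd Nat.card_pos.ne'
          ((dvd_mul_right 2 2).trans hdG)).ne'
    haveI := P.isPGroup'.center_nontrivial
    obtain ⟨z, hz⟩ := exists_prime_orderOf_dvd_card' (G := Subgroup.center (P : Subgroup G)) 2 (by
      obtain ⟨n, hn⟩ := (P.isPGroup'.to_subgroup (Subgroup.center (P : Subgroup G))).nontrivial_iff_card.1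
        inferInstance
      rw [hn.2]; exact dvd_pow_self 2 hn.1.ne')
    refine Or.inr (mk ((z : (P : Subgroup G)) : G) (by rw [Subgroup.orderOf_coe, Subgroup.orderOf_coe, hz])
      fun c hc => ?_)
    have hz1 : ((z : (P : Subgroup G)) : G) = 1 := by
      refine FaithfulSMul.eq_of_smul_eq_smul (α := α) fun d => ?_
      obtain ⟨k, rfl⟩ := MulAction.exists_smul_eq (P : Subgroup G) c d
      have hcomm := congrArg Subtype.val (Subgroup.mem_center_iff.1 z.2 k)
      rw [one_smul]
      show ((z : (P : Subgroup G)) : G) • ((k : G) • c) = (k : G) • c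
      rw [← mul_smul, ← show (k : G) * (z : (P : Subgroup G)) = (z : (P : Subgroup G)) * (k : G) from hcomm,
        mul_smul, hc]
    have : orderOf ((z : (P : Subgroup G)) : G) = 2 := by
      rw [Subgroup.orderOf_coe, Subgroup.orderOf_coe, hz]
    rw [hz1, orderOf_one] at this
    omega
  · obtain ⟨x, hx⟩ := exists_prime_orderOf_dvd_card' (G := G) p ((dvd_mul_left p 2).trans hdG)
    by_cases hf : ∀ c : α, x • c ≠ c
    · exact Or.inr (mk x hx hf)
    left
    push Not at hf
    obtain ⟨c, hc⟩ := hf
    set g : Equiv.Perm α := (x : Equiv.Perm α) with hg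
    have hgo : orderOf g = p := by rw [hg, Subgroup.orderOf_coe, hx]
    have hlt : g.support.card < 2 * orderOf g := by
      rw [hgo, ← hα, ← card_univ]
      exact card_lt_card ((ssubset_univ_iff).2 fun e =>
        Equiv.Perm.mem_support.1 (e ▸ mem_univ c) hc)
    have hcyc := Equiv.Perm.isCycle_of_prime_order (hgo ▸ hp) hlt
    have hsc : g.support.card = p := hcyc.orderOf.symm.trans hgo
    have hp3 : 3 ≤ p := by have := hp.two_le; omega
    have hs : Set.ncard ((g.support : Set α)ᶜ) = (p - 1) + 1 := by
      apply Nat.add_left_cancel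
      rw [Set.ncard_add_ncard_compl, Set.ncard_coe_finset, hcard, hsc]
      omega
    have := Equiv.Perm.isPretransitive_of_isCycle_mem (G := G) hcyc x.2
    haveI hmp : MulAction.IsMultiplyPreprimitive G α (p - 1 + 2) := by
      refine hG.isMultiplyPreprimitive hs (by rw [hcard]; omega) ?_
      apply MulAction.IsPreprimitive.of_prime_card
      convert! hp
      rw [Nat.card_eq_fintype_card, Fintype.card_subtype, ← hsc]
      congr 1
      ext d
      simp [SubMulAction.mem_ofFixingSubgroup_iff]
    haveI := MulAction.IsMultiplyPreprimitive.isMultiplyPretransitive G α (p - 1 + 2)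
    exact MulAction.isMultiplyPretransitive_of_le (n := p - 1 + 2) (by omega)
      (by rw [Nat.card_eq_fintype_card, hα]; omega)

end Cfsg.Agent.PrimeBlock.DoubleDegree
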