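import Cfsg.Agent.Lib.PrimeBlock.DoubleDegree.Perm

/-!
# The orbital table of a primitive group of degree `2 p`
-/

set_option autoImplicit false
set_option linter.style.haveILetI false
set_option linter.unusedSectionVars false

namespace Cfsg.Agent.PrimeBlock.DoubleDegree

open Finset Cfsg.Agent.Characters Cfsg.Agent.Perm.PermModule Cfsg.Agent.Perm.CentraliserRing
open scoped ComplexConjugate Classical

universe u w

variable {p : ℕ} [Fact p.Prime] {G : Type u} [Group G] [Fintype G] {Ω : Type w} [Fintype Ω]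
  [MulAction G Ω]

namespace Setup

variable (S : Setup p G Ω)

/-- A point. -/
noncomputable def pt : Ω := S.nonempty.some

/-- The diagonal orbital. -/
noncomputable def diag : Orb G Ω := orb G S.pt S.pt

theorem ne_diag_iff {u : Orb G Ω} : u ≠ S.diag ↔ ∀ a : Ω, u ≠ orb G a a := by
  haveI := S.pretrans
  refine ⟨fun h a e => h ?_, fun h => h S.pt⟩
  obtain ⟨g, hg⟩ := MulAction.exists_smul_eq G S.pt a
  rw [e, ← hg, orb_smul]
  rfl

theorem mult_ne (χ : Cfsg.IrrCharacter G) :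
    S.mult χ ≠ 0 ↔ Cfsg.classInner (permChar G Ω) (χ : G → ℂ) ≠ 0 := by
  rw [S.mult_spec, Nat.cast_ne_zero]

/-- The principal constituent. -/
noncomputable def cTriv : Cst G Ω :=
  ⟨trivIrr G, (S.mult_ne _).1 (by rw [S.mult_triv]; exact one_ne_zero)⟩

/-- The constituent `β`. -/
noncomputable def cBeta : Cst G Ω :=
  ⟨S.beta, (S.mult_ne _).1 (by rw [S.beta_spec.2.1]; exact one_ne_zero)⟩

theorem cst_mult (χ : Cst G Ω) : S.mult χ.1 = 1 :=
  le_antisymm (S.mult_le _) (Nat.pos_of_ne_zero ((S.mult_ne _).2 χ.2))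

theorem cBeta_ne : S.cBeta ≠ S.cTriv := fun h => S.beta_spec.1 (congrArg Subtype.val h)

theorem res_zero_of_ne {χ : Cst G Ω} (h1 : χ ≠ S.cTriv) (h2 : χ ≠ S.cBeta) : res S.hx χ.1 0 = 0 := by
  have := S.beta_spec.2.2.2 χ.1 (fun e => h1 (Subtype.ext e)) (fun e => h2 (Subtype.ext e))
  rwa [S.cst_mult, one_mul] at this

theorem orb_two (hi : res S.hx S.beta 1 = 2) : Fintype.card (Orb G Ω) = 2 := by
  rw [← card_cst S.multFree, ← card_univ, show (univ : Finset (Cst G Ω)) = {S.cTriv, S.cBeta} from ?_,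
    card_pair S.cBeta_ne.symm]
  ext χ
  simp only [mem_univ, mem_insert, mem_singleton, true_iff]
  exact (S.cst_two hi χ.1 ((S.mult_ne _).2 χ.2)).imp (fun e => Subtype.ext e) fun e => Subtype.ext e

variable (hi : res S.hx S.beta 1 = 1)

include hi in
theorem exists_gam (r : ZMod p) (hr : r ≠ 0) : ∃ χ : Cst G Ω, res S.hx χ.1 r = 1 ∧ χ ≠ S.cTriv ∧
    χ ≠ S.cBeta ∧ ∀ ψ : Cst G Ω, ψ ≠ S.cBeta → ψ ≠ χ → res S.hx ψ.1 r = 0 := by
  haveI := Fintype.ofFinite (Cfsg.IrrCharacter G)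
  have h := S.sum_mult_res r
  rw [← add_sum_erase _ _ (mem_univ S.beta), S.beta_spec.2.1, S.res_beta_const r hr, hi] at h
  obtain ⟨χ, hχ, hχ0⟩ : ∃ χ ∈ univ.erase S.beta, S.mult χ * res S.hx χ r ≠ 0 :=
    exists_ne_zero_of_sum_ne_zero (by omega)
  rw [← add_sum_erase _ _ hχ] at h
  have h1 : S.mult χ * res S.hx χ r = 1 := by omega
  have h2 : ∑ ψ ∈ (univ.erase S.beta).erase χ, S.mult ψ * res S.hx ψ r = 0 := by omega
  have hm : S.mult χ = 1 := Nat.eq_one_of_mul_eq_one_right h1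
  refine ⟨⟨χ, (S.mult_ne _).1 (by omega)⟩, Nat.eq_one_of_mul_eq_one_left h1, fun e => ?_,
    fun e => (mem_erase.1 hχ).1 (congrArg Subtype.val e), fun ψ h3 h4 => ?_⟩
  · rw [show χ = trivIrr G from congrArg Subtype.val e, res_triv, if_neg hr] at h1
    omega
  · have := sum_eq_zero_iff.1 h2 ψ.1 (mem_erase.2 ⟨fun e => h4 (Subtype.ext e),
      mem_erase.2 ⟨fun e => h3 (Subtype.ext e), mem_univ _⟩⟩)
    rwa [S.cst_mult, one_mul] at this

/-- The constituent at a residue. -/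
noncomputable def gam (a : (ZMod p)ˣ) : Cst G Ω := (S.exists_gam hi a a.ne_zero).choose

theorem gam_spec (a : (ZMod p)ˣ) : res S.hx (S.gam hi a).1 (a : ZMod p) = 1 ∧
    S.gam hi a ≠ S.cTriv ∧ S.gam hi a ≠ S.cBeta ∧
      ∀ ψ : Cst G Ω, ψ ≠ S.cBeta → ψ ≠ S.gam hi a → res S.hx ψ.1 (a : ZMod p) = 0 :=
  (S.exists_gam hi a a.ne_zero).choose_spec

theorem gam_eq {a : (ZMod p)ˣ} {χ : Cst G Ω} (h1 : χ ≠ S.cBeta)
    (h2 : res S.hx χ.1 (a : ZMod p) ≠ 0) : χ = S.gam hi a := by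
  by_contra h
  exact h2 ((S.gam_spec hi a).2.2.2 χ h1 h)

/-- The twist on constituents. -/
noncomputable def ctw (a : (ZMod p)ˣ) (χ : Cst G Ω) : Cst G Ω :=
  ⟨S.tw a χ.1, (S.mult_ne _).1 (by rw [S.mult_tw, S.cst_mult]; exact one_ne_zero)⟩

theorem gam_mul (a b : (ZMod p)ˣ) : S.gam hi (a * b) = S.ctw a (S.gam hi b) := by
  refine (S.gam_eq hi (fun e => ?_) ?_).symm
  · have h1 : S.tw a (S.gam hi b).1 = S.beta := congrArg Subtype.val e
    have h2 := S.res_tw a (S.gam hi b).1 0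
    rw [mul_zero, h1, S.beta_spec.2.2.1,
      S.res_zero_of_ne (S.gam_spec hi b).2.1 (S.gam_spec hi b).2.2.1] at h2
    omega
  · show res S.hx (S.tw a _) _ ≠ 0
    rw [Units.val_mul, S.res_tw, (S.gam_spec hi b).1]
    exact one_ne_zero

/-- The residues of a single constituent. -/
def Hsub : Subgroup (ZMod p)ˣ where
  carrier := {a | S.gam hi a = S.gam hi 1}
  one_mem' := rfl
  mul_mem' {a b} ha hb := by
    show S.gam hi (a * b) = _
    rw [S.gam_mul, show S.gam hi b = S.gam hi 1 from hb, ← S.gam_mul, mul_one]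
    exact ha
  inv_mem' {a} ha := by
    show S.gam hi a⁻¹ = _
    conv_lhs => rw [← mul_one a⁻¹, S.gam_mul, ← show S.gam hi a = S.gam hi 1 from ha, ← S.gam_mul,
      inv_mul_cancel]

theorem gam_mul_mem {a h : (ZMod p)ˣ} (hh : h ∈ S.Hsub hi) : S.gam hi (a * h) = S.gam hi a := by
  rw [S.gam_mul, show S.gam hi h = S.gam hi 1 from hh, ← S.gam_mul, mul_one]

theorem mem_of_gam_eq {a b : (ZMod p)ˣ} (h : S.gam hi a = S.gam hi b) : a⁻¹ * b ∈ S.Hsub hi := by
  show S.gam hi (a⁻¹ * b) = _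
  rw [S.gam_mul, ← h, ← S.gam_mul, inv_mul_cancel]

include hi in
theorem card_orb_eq : Fintype.card (Orb G Ω) = (S.Hsub hi).index + 2 := by
  rw [← card_cst S.multFree]
  let f : (ZMod p)ˣ ⧸ S.Hsub hi → {χ : Cst G Ω // χ ≠ S.cTriv ∧ χ ≠ S.cBeta} := fun K =>
    ⟨S.gam hi K.out, (S.gam_spec hi K.out).2.1, (S.gam_spec hi K.out).2.2.1⟩
  have hf : Function.Bijective f := by
    refine ⟨fun K L h => ?_, fun χ => ?_⟩
    · rw [← QuotientGroup.out_eq' K, ← QuotientGroup.out_eq' L, QuotientGroup.eq]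
      exact S.mem_of_gam_eq hi (congrArg Subtype.val h)
    · obtain ⟨r, hr⟩ : ∃ r, res S.hx χ.1.1 r ≠ 0 := by
        by_contra h
        push Not at h
        haveI := Fintype.ofFinite (Cfsg.IrrCharacter G)
        exact S.eq_zero_of_res χ.1.1 h
      have hr0 : r ≠ 0 := fun e => hr (e ▸ S.res_zero_of_ne χ.2.1 χ.2.2)
      refine ⟨(Units.mk0 r hr0 : (ZMod p)ˣ), Subtype.ext ?_⟩
      show S.gam hi _ = χ.1
      obtain ⟨h, hh⟩ := QuotientGroup.mk_out_eq_mul (S.Hsub hi) (Units.mk0 r hr0)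
      rw [hh, S.gam_mul_mem hi h.2]
      exact (S.gam_eq hi (a := Units.mk0 r hr0) χ.2.2 hr).symm
  have hc := Nat.card_eq_of_bijective f hf
  rw [Nat.card_eq_fintype_card (α := {χ : Cst G Ω // χ ≠ S.cTriv ∧ χ ≠ S.cBeta}),
    Fintype.card_subtype] at hc
  rw [Subgroup.index, hc, ← card_univ,
    ← card_filter_add_card_filter_not (s := (univ : Finset (Cst G Ω)))
      (p := fun χ => χ ≠ S.cTriv ∧ χ ≠ S.cBeta)]
  congr 1
  rw [show univ.filter (fun χ => ¬ (χ ≠ S.cTriv ∧ χ ≠ S.cBeta)) = {S.cTriv, S.cBeta} by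
    ext χ; simp only [mem_filter, mem_univ, true_and, mem_insert, mem_singleton]; tauto,
    card_pair S.cBeta_ne.symm]

/-- The coefficient of a residue. -/
noncomputable def coef (F : Cst G Ω → ℂ) (r : ZMod p) : ℂ :=
  if hr : r = 0 then F S.cTriv + F S.cBeta else F S.cBeta + F (S.gam hi (Units.mk0 r hr))

theorem expand (F : Cst G Ω → ℂ) (j : ZMod p) :
    ∑ χ : Cst G Ω, F χ * (χ.1 : G → ℂ) (S.x ^ j.val) = ∑ r, S.coef hi F r * ψ p (r * j) := by
  simp only [res_spec S.hx, mul_sum]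
  rw [sum_comm]
  refine sum_congr rfl fun r _ => ?_
  simp only [← mul_assoc, ← sum_mul]
  congr 1
  unfold coef
  split_ifs with hr
  · subst hr
    rw [Fintype.sum_eq_add S.cTriv S.cBeta S.cBeta_ne.symm fun χ hχ => by
      rw [S.res_zero_of_ne hχ.1 hχ.2, Nat.cast_zero, mul_zero]]
    rw [show res S.hx S.cTriv.1 0 = 1 from (res_triv S.hx 0).trans (if_pos rfl),
      show res S.hx S.cBeta.1 0 = 1 from S.beta_spec.2.2.1, Nat.cast_one, mul_one, mul_one]
  · obtain ⟨h1, -, h3, h4⟩ := S.gam_spec hi (Units.mk0 r hr)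
    rw [Fintype.sum_eq_add S.cBeta (S.gam hi (Units.mk0 r hr)) h3.symm fun χ hχ => by
      rw [show res S.hx χ.1 r = 0 from h4 χ hχ.1 hχ.2, Nat.cast_zero, mul_zero]]
    rw [show res S.hx S.cBeta.1 r = 1 from (S.res_beta_const r hr).trans hi,
      show res S.hx (S.gam hi (Units.mk0 r hr)).1 r = 1 from h1, Nat.cast_one, mul_one, mul_one]

theorem expand_one (F : Cst G Ω → ℂ) :
    ∑ χ : Cst G Ω, F χ * (χ.1 : G → ℂ) 1 = ∑ r, S.coef hi F r := by
  have h := S.expand hi F 0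
  simp only [ZMod.val_zero, pow_zero] at h
  rw [h]
  exact sum_congr rfl fun r _ => by rw [mul_zero, AddChar.map_zero_eq_one, mul_one]

theorem deg_cBeta (h : res S.hx S.beta 1 = 1) : (S.cBeta.1 : G → ℂ) 1 = (p : ℂ) := by
  rw [show S.cBeta.1 = S.beta from rfl, S.deg_beta, h, mul_one,
    Nat.add_sub_cancel' S.hp.one_le]

/-- The eigenvalue. -/
noncomputable abbrev lm (u : Orb G Ω) (χ : Cst G Ω) : ℂ := lam S.multFree u χ

theorem p_dvd (u : Orb G Ω) (g : G) (hg : g ^ p = 1) (hfree : ∀ c : Ω, g • c ≠ c) :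
    p ∣ cntD u g := by
  let Y := {c : Ω // orb G c (g • c) = u}
  let σ : Equiv.Perm Y := (MulAction.toPerm g : Equiv.Perm Ω).subtypePerm fun c => by
    rw [MulAction.toPerm_apply, orb_smul]
  have hσ : σ ^ p ^ 1 = 1 := by
    rw [pow_one]
    ext c
    rw [Equiv.Perm.subtypePerm_pow]
    show ((MulAction.toPermHom G Ω g) ^ p) c.1 = _
    rw [← map_pow, hg, map_one]
    rfl
  have hsupp : σ.supportᶜ = ∅ := by
    rw [eq_empty_iff_forall_notMem]
    intro c hc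
    rw [mem_compl, Equiv.Perm.mem_support, not_not] at hc
    exact hfree c.1 (congrArg Subtype.val hc)
  have h := Equiv.Perm.card_compl_support_modEq (p := p) hσ
  rw [hsupp, card_empty, Fintype.card_subtype] at h
  exact Nat.modEq_zero_iff_dvd.1 h.symm

theorem cntD_zero {u : Orb G Ω} (hu : u ≠ S.diag) : cntD u (S.x ^ (0 : ZMod p).val) = 0 := by
  rw [ZMod.val_zero, pow_zero, cntD_one_zero (S.ne_diag_iff.1 hu)]

/-- The cycle counts. -/
noncomputable def Cv (u : Orb G Ω) (m : ZMod p) : ℕ := cntD u (S.x ^ m.val) / p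

theorem Cv_mul {u : Orb G Ω} (hu : u ≠ S.diag) (m : ZMod p) :
    p * S.Cv u m = cntD u (S.x ^ m.val) := by
  refine Nat.mul_div_cancel' ?_
  rcases eq_or_ne m 0 with rfl | hm
  · rw [S.cntD_zero hu]; exact dvd_zero p
  · exact p_dvd u _ (by rw [← pow_mul, mul_comm, pow_mul, S.pow_card, one_pow]) (S.free_pow hm)

theorem Cv_sum (m : ZMod p) (hm : m ≠ 0) :
    ∑ u : {u : Orb G Ω // u ≠ S.diag}, S.Cv u.1 m = 2 := by
  haveI := S.pretrans
  refine Nat.eq_of_mul_eq_mul_left S.hp.pos ?_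
  rw [mul_sum, sum_congr rfl fun (u : {u : Orb G Ω // u ≠ S.diag}) _ => S.Cv_mul u.2 m,
    ← sum_subtype (univ.erase S.diag) (fun u => by simp) fun u => cntD u (S.x ^ m.val)]
  have h := sum_cntD (G := G) (Ω := Ω) (S.x ^ m.val)
  rw [← add_sum_erase _ _ (mem_univ S.diag), diag, cntD_diag] at h
  have h0 : Nat.card (MulAction.fixedBy Ω (S.x ^ m.val)) = 0 :=
    Nat.card_eq_zero.2 (Or.inl ⟨fun c => S.free_pow hm c.1 c.2⟩)
  rw [h0, zero_add, S.card_eq] at h
  rw [diag, h, mul_comm]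

theorem pC_eq {u : Orb G Ω} (hu : u ≠ S.diag) (m : ZMod p) :
    ((p * S.Cv u m : ℕ) : ℂ) = ∑ r, S.coef hi (S.lm u) r * ψ p (r * m) := by
  rw [S.Cv_mul hu, cntD_eq S.multFree, S.expand hi]

theorem coef_eq {u : Orb G Ω} (hu : u ≠ S.diag) (r : ZMod p) :
    S.coef hi (S.lm u) r = ∑ m, (S.Cv u m : ℂ) * ψ p (-(r * m)) := by
  refine mul_left_cancel₀ (Nat.cast_ne_zero.2 S.hp.ne_zero : (p : ℂ) ≠ 0) ?_
  rw [inv_ft (S.pC_eq hi hu) r, mul_sum]
  exact sum_congr rfl fun m _ => by push_cast; ring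

/-- The suborbit length. -/
noncomputable def kv (u : Orb G Ω) : ℕ := kk u S.pt

theorem lam_triv (u : Orb G Ω) : S.lm u S.cTriv = (S.kv u : ℂ) := by
  haveI := S.pretrans
  have hone : ∀ g : G, Cfsg.permRep ℂ G Ω g (1 : Ω → ℂ) = 1 := fun g => rfl
  have hiso : ∀ χ : Cst G Ω, isoOp Ω (χ.1 : G → ℂ) (1 : Ω → ℂ) =
      if S.cTriv = χ then (1 : Ω → ℂ) else 0 := fun χ => by
    simp only [isoOp, LinearMap.smul_apply, LinearMap.sum_apply, hone, ← sum_smul, smul_smul]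
    have h := classInner_irr (trivIrr G) χ.1
    rw [classInner_def] at h
    simp only [trivIrr_coe, one_mul] at h
    rw [mul_assoc, h]
    split_ifs with h1 h2 h2
    · rw [← h1]; simp [trivIrr_coe]
    · exact absurd (Subtype.ext h1 : S.cTriv = χ) h2
    · exact absurd (congrArg Subtype.val h2) h1
    · rw [mul_zero, zero_smul]
  have h := LinearMap.congr_fun (op_eq S.multFree u) (1 : Ω → ℂ)
  simp only [LinearMap.sum_apply, LinearMap.smul_apply, hiso, smul_ite, smul_zero, sum_ite_eq,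
    mem_univ, if_true] at h
  have := congrFun h S.pt
  rw [op_apply, Pi.smul_apply, Pi.one_apply, smul_eq_mul, mul_one] at this
  simp only [Pi.one_apply, sum_boole] at this
  exact this.symm

/-- The eigenvalue on `β`. -/
noncomputable def sv (u : Orb G Ω) : ℤ := ∑ m, (S.Cv u m : ℤ) - (S.kv u : ℤ)

include hi in
theorem lam_beta {u : Orb G Ω} (hu : u ≠ S.diag) : S.lm u S.cBeta = (S.sv u : ℂ) := by
  have h := S.coef_eq hi hu 0
  simp only [coef, dif_pos, zero_mul, neg_zero, AddChar.map_zero_eq_one, mul_one] at h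
  rw [S.lam_triv] at h
  rw [sv]; push_cast
  linear_combination h

include hi in
theorem sum_sq_C {u : Orb G Ω} (hu : u ≠ S.diag) :
    ∑ m, (S.Cv u m : ℤ) ^ 2 = 2 * (S.kv u : ℤ) - 2 * S.sv u ^ 2 := by
  haveI := S.pretrans
  have hP := parseval (S.pC_eq hi hu)
  simp only [Complex.conj_natCast] at hP
  have hpt : ∀ r, S.coef hi (S.lm u) r * conj (S.coef hi (S.lm u) r) =
      S.coef hi (fun χ => S.lm u χ * conj (S.lm u χ)) r +
      (if r = 0 then 2 * (S.kv u : ℂ) * (S.sv u : ℂ)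
        else (S.sv u : ℂ) * ((S.coef hi (S.lm u) r - (S.sv u : ℂ)) +
          conj (S.coef hi (S.lm u) r - (S.sv u : ℂ)))) := fun r => by
    unfold coef
    split_ifs with hr
    · simp only [S.lam_triv, S.lam_beta hi hu, map_add, Complex.conj_natCast, map_intCast]
      ring
    · simp only [S.lam_beta hi hu, map_add, map_sub, map_intCast]
      ring
  rw [sum_congr rfl fun r _ => hpt r, sum_add_distrib, ← S.expand_one hi] at hP
  have horth := lam_orth S.multFree S.pt u u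
  rw [if_pos rfl, S.card_eq] at horth
  rw [sum_congr rfl fun (χ : Cst G Ω) _ => mul_comm _ ((χ.1 : G → ℂ) 1), horth] at hP
  have h0 : ∑ r, S.coef hi (S.lm u) r = 0 := by
    rw [← S.expand_one hi, ← cntD_eq S.multFree, cntD_one_zero (S.ne_diag_iff.1 hu), Nat.cast_zero]
  have h00 : S.coef hi (S.lm u) 0 = (S.kv u : ℂ) + (S.sv u : ℂ) := by
    simp only [coef, dif_pos, S.lam_triv, S.lam_beta hi hu]
  have hrest : ∑ r ∈ univ.erase (0 : ZMod p), (S.coef hi (S.lm u) r - (S.sv u : ℂ)) =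
      -((S.kv u : ℂ) + (S.sv u : ℂ)) - ((p : ℂ) - 1) * (S.sv u : ℂ) := by
    rw [sum_sub_distrib, sum_erase_eq_sub (mem_univ _), h0, h00, sum_const,
      card_erase_of_mem (mem_univ _), card_univ, ZMod.card, nsmul_eq_mul, Nat.cast_sub S.hp.one_le,
      Nat.cast_one]
    ring
  have hrest' := congrArg conj hrest
  rw [map_sum] at hrest'
  simp only [map_neg, map_sub, map_add, map_mul, Complex.conj_natCast, map_intCast, map_one] at hrest'
  have hB : (∑ r : ZMod p, if r = 0 then 2 * (S.kv u : ℂ) * (S.sv u : ℂ)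
      else (S.sv u : ℂ) * ((S.coef hi (S.lm u) r - (S.sv u : ℂ)) +
        conj (S.coef hi (S.lm u) r - (S.sv u : ℂ)))) =
      2 * (S.kv u : ℂ) * (S.sv u : ℂ) + (S.sv u : ℂ) *
        (2 * (-((S.kv u : ℂ) + (S.sv u : ℂ)) - ((p : ℂ) - 1) * (S.sv u : ℂ))) := by
    rw [← add_sum_erase _ _ (mem_univ (0 : ZMod p)), if_pos rfl,
      sum_congr rfl fun r hr => if_neg (mem_erase.1 hr).1, ← mul_sum, sum_add_distrib, hrest]
    simp only [map_sub, map_intCast]
    rw [hrest']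
    ring
  rw [hB] at hP
  push_cast at hP
  have hp0 : (p : ℂ) ≠ 0 := Nat.cast_ne_zero.2 S.hp.ne_zero
  have hfin : (p : ℂ) * ((p : ℂ) * ∑ m, ((S.Cv u m : ℂ) * (S.Cv u m : ℂ))) =
      (p : ℂ) * ((p : ℂ) * (2 * (S.kv u : ℂ) - 2 * (S.sv u : ℂ) ^ 2)) := by
    rw [mul_sum, mul_sum, show ∑ m, (p : ℂ) * ((p : ℂ) * ((S.Cv u m : ℂ) * (S.Cv u m : ℂ))) =
      ∑ m, (p : ℂ) * (S.Cv u m : ℂ) * ((p : ℂ) * (S.Cv u m : ℂ)) from sum_congr rfl fun m _ => by ring,
      hP, show (S.kv u : ℂ) = (kk u S.pt : ℂ) from rfl]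
    ring
  have := mul_left_cancel₀ hp0 (mul_left_cancel₀ hp0 hfin)
  have h2 : ((∑ m, (S.Cv u m : ℤ) ^ 2 : ℤ) : ℂ) = ((2 * (S.kv u : ℤ) - 2 * S.sv u ^ 2 : ℤ) : ℂ) := by
    push_cast
    simp only [sq] at this ⊢
    exact this
  exact_mod_cast h2

theorem two_le_kv {u : Orb G Ω} (hu : u ≠ S.diag) : 2 ≤ S.kv u := by
  haveI := S.pretrans
  obtain ⟨a, b, rfl⟩ := exists_orb u
  by_contra h
  have hk : kk (orb G a b) a = kk (orb G a b) S.pt := kk_const _ _ _
  have h1 : (univ.filter fun c => orb G a c = orb G a b).card ≤ 1 := by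
    show kk (orb G a b) a ≤ 1
    rw [hk]
    show S.kv _ ≤ 1
    omega
  have hab : a = b := S.stab_injective fun g hg => by
    refine card_le_one.1 h1 _ ?_ _ (mem_filter.2 ⟨mem_univ _, rfl⟩)
    rw [mem_filter]
    refine ⟨mem_univ _, ?_⟩
    conv_rhs => rw [← orb_smul g a b, hg]
  exact S.ne_diag_iff.1 hu a (by rw [hab])

include hi in
theorem sum_sv : ∑ u : {u : Orb G Ω // u ≠ S.diag}, S.sv u.1 = -1 := by
  haveI := S.pretrans
  have h := congrFun (coeff_ext S.multFree (c := fun χ => ∑ u, S.lm u χ)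
    (c' := fun χ => if χ = S.cTriv then ((2 * p : ℕ) : ℂ) else 0) fun g => ?_) S.cBeta
  · simp only [if_neg S.cBeta_ne] at h
    rw [← add_sum_erase _ _ (mem_univ S.diag), show S.lm S.diag S.cBeta = 1 from
      lam_diag S.multFree S.pt _, sum_subtype (univ.erase S.diag) (p := fun u => u ≠ S.diag)
      (fun u => by simp) fun u => S.lm u S.cBeta,
      sum_congr rfl fun (u : {u : Orb G Ω // u ≠ S.diag}) _ => S.lam_beta hi u.2] at h
    have h2 : ((∑ u : {u : Orb G Ω // u ≠ S.diag}, S.sv u.1 : ℤ) : ℂ) = ((-1 : ℤ) : ℂ) := by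
      push_cast; linear_combination h
    exact_mod_cast h2
  · simp only [sum_mul]
    rw [sum_comm, sum_congr rfl fun u _ => (cntD_eq S.multFree u g).symm, ← Nat.cast_sum, sum_cntD,
      S.card_eq, sum_eq_single S.cTriv (fun χ _ hχ => by rw [if_neg hχ, zero_mul])
      fun h => absurd (mem_univ _) h, if_pos rfl, show (S.cTriv.1 : G → ℂ) g = 1 from rfl, mul_one]

include hi in
theorem sum_qv :
    ∑ u : {u : Orb G Ω // u ≠ S.diag}, ((S.sv u.1 : ℚ) ^ 2 / (S.kv u.1 : ℚ)) = 1 := by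
  haveI := S.pretrans
  have h := lam_orth_col S.multFree S.pt S.cBeta
  rw [S.deg_cBeta hi, S.card_eq, Nat.cast_mul, Nat.cast_ofNat, mul_comm (2 : ℂ)] at h
  have h1 := mul_left_cancel₀ (Nat.cast_ne_zero.2 S.hp.ne_zero : (p : ℂ) ≠ 0) h
  rw [← add_sum_erase _ _ (mem_univ S.diag)] at h1
  have hd : kk S.diag S.pt = 1 := by
    rw [kk, card_eq_one]
    refine ⟨S.pt, ?_⟩
    ext b
    simp only [mem_filter, mem_univ, true_and, mem_singleton]
    refine ⟨fun e => ?_, fun e => by rw [e]; rfl⟩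
    obtain ⟨k, h1, h2⟩ := orb_eq e
    rw [← h2, h1]
  rw [show lam S.multFree S.diag S.cBeta = 1 from lam_diag S.multFree S.pt _, map_one, mul_one, hd,
    Nat.cast_one, div_one,
    sum_subtype (univ.erase S.diag) (p := fun u => u ≠ S.diag) (fun u => by simp)
      fun u => S.lm u S.cBeta * conj (S.lm u S.cBeta) / (kk u S.pt : ℂ),
    sum_congr rfl fun (u : {u : Orb G Ω // u ≠ S.diag}) _ => by
      rw [S.lam_beta hi u.2, map_intCast, ← sq]] at h1
  have h2 : ((∑ u : {u : Orb G Ω // u ≠ S.diag}, ((S.sv u.1 : ℚ) ^ 2 / (S.kv u.1 : ℚ)) : ℚ) : ℂ) =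
      ((1 : ℚ) : ℂ) := by
    push_cast
    simp only [kv]
    linear_combination h1
  exact_mod_cast h2

theorem ft_f {u : Orb G Ω} (hu : u ≠ S.diag) (a : (ZMod p)ˣ) :
    ∑ m, (((S.Cv u m : ℤ) - S.sv u * dlt p m : ℤ) : ℂ) * ψ p (-((a : ZMod p) * m)) =
      S.lm u (S.gam hi a) := by
  push_cast
  simp only [sub_mul, sum_sub_distrib, mul_assoc, ← mul_sum, ft_dlt]
  rw [← S.coef_eq hi hu, coef, dif_neg a.ne_zero, S.lam_beta hi hu, Units.mk0_val]
  ring

include hi in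
theorem mul_row (u v : {u : Orb G Ω // u ≠ S.diag}) :
    ∃ (x0 : ℤ) (x : {u : Orb G Ω // u ≠ S.diag} → ℤ),
      S.sv u.1 * S.sv v.1 = x0 + ∑ z, x z * S.sv z.1 ∧ ∃ c : ℤ, ∀ m,
        conv (fun a => (S.Cv u.1 a : ℤ) - S.sv u.1 * dlt p a)
            (fun a => (S.Cv v.1 a : ℤ) - S.sv v.1 * dlt p a) m
          - x0 * dlt p m - ∑ z, x z * ((S.Cv z.1 m : ℤ) - S.sv z.1 * dlt p m) = c := by
  haveI := S.pretrans
  obtain ⟨x, hx⟩ := lam_mul S.multFree u.1 v.1
  have hsplit : ∀ χ, S.lm u.1 χ * S.lm v.1 χ = (x S.diag : ℂ) +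
      ∑ z : {u : Orb G Ω // u ≠ S.diag}, (x z.1 : ℂ) * S.lm z.1 χ := fun χ => by
    rw [show S.lm u.1 χ * S.lm v.1 χ = _ from hx χ, ← add_sum_erase _ _ (mem_univ S.diag),
      show lam S.multFree S.diag χ = 1 from lam_diag S.multFree S.pt χ, mul_one,
      sum_subtype (univ.erase S.diag) (p := fun u => u ≠ S.diag) (fun u => by simp)
        fun z => (x z : ℂ) * lam S.multFree z χ]
  refine ⟨x S.diag, fun z => x z.1, ?_, ?_⟩
  · have h := hsplit S.cBeta
    simp only [S.lam_beta hi u.2, S.lam_beta hi v.2,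
      fun z : {u : Orb G Ω // u ≠ S.diag} => S.lam_beta hi z.2] at h
    exact_mod_cast h
  · set g : ZMod p → ℤ := fun m => conv (fun a => (S.Cv u.1 a : ℤ) - S.sv u.1 * dlt p a)
        (fun a => (S.Cv v.1 a : ℤ) - S.sv v.1 * dlt p a) m
      - (x S.diag : ℤ) * dlt p m
      - ∑ z : {u : Orb G Ω // u ≠ S.diag}, (x z.1 : ℤ) * ((S.Cv z.1 m : ℤ) - S.sv z.1 * dlt p m)
      with hg
    refine ⟨g 0, fun m => const_of_ft (g := g) (fun r hr => ?_) m⟩
    obtain ⟨a, rfl⟩ : ∃ a : (ZMod p)ˣ, (a : ZMod p) = r := ⟨Units.mk0 r hr, rfl⟩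
    have hg' : ∀ m, (g m : ℂ) * ψ p (-((a : ZMod p) * m)) =
        ((conv (fun a => (S.Cv u.1 a : ℤ) - S.sv u.1 * dlt p a)
          (fun a => (S.Cv v.1 a : ℤ) - S.sv v.1 * dlt p a) m : ℤ) : ℂ) * ψ p (-((a : ZMod p) * m))
        - (x S.diag : ℂ) * ((dlt p m : ℂ) * ψ p (-((a : ZMod p) * m)))
        - ∑ z : {u : Orb G Ω // u ≠ S.diag}, (x z.1 : ℂ) *
            ((((S.Cv z.1 m : ℤ) - S.sv z.1 * dlt p m : ℤ) : ℂ) * ψ p (-((a : ZMod p) * m))) := fun m => by
      simp only [hg, Int.cast_sub, Int.cast_mul, Int.cast_sum, sub_mul, sum_mul, Int.cast_natCast,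
        mul_assoc]
    rw [sum_congr rfl fun m _ => hg' m, sum_sub_distrib, sum_sub_distrib, ← mul_sum, ft_dlt, sum_comm,
      ft_conv, S.ft_f hi u.2, S.ft_f hi v.2, hsplit]
    simp only [← mul_sum, fun z : {u : Orb G Ω // u ≠ S.diag} => S.ft_f hi z.2 a]
    ring

/-- The table. -/
noncomputable def table : Table p {u : Orb G Ω // u ≠ S.diag} where
  H := S.Hsub hi
  C u := S.Cv u.1
  s u := S.sv u.1
  k u := S.kv u.1
  C_zero u := by rw [Cv, S.cntD_zero u.2, Nat.zero_div]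
  C_inv u h hh m := by
    have hp0 : (p : ℂ) ≠ 0 := Nat.cast_ne_zero.2 S.hp.ne_zero
    have e : ((p * S.Cv u.1 ((h : ZMod p) * m) : ℕ) : ℂ) = ((p * S.Cv u.1 m : ℕ) : ℂ) := by
      rw [S.pC_eq hi u.2, S.pC_eq hi u.2]
      refine Fintype.sum_equiv (Units.mulRight h) _ _ fun r => ?_
      rw [Units.mulRight_apply, mul_assoc]
      congr 1
      unfold coef
      rcases eq_or_ne r 0 with rfl | hr
      · simp
      · rw [dif_neg hr, dif_neg (mul_ne_zero hr h.ne_zero),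
          show Units.mk0 (r * (h : ZMod p)) (mul_ne_zero hr h.ne_zero) = Units.mk0 r hr * h from
            Units.ext rfl, S.gam_mul_mem hi hh]
    exact Nat.eq_of_mul_eq_mul_left S.hp.pos (by exact_mod_cast e)
  sum_C m hm := S.Cv_sum m hm
  card_eq := by
    rw [Fintype.card_subtype_compl, Fintype.card_subtype_eq, S.card_orb_eq hi]
    rfl
  k_ge u := S.two_le_kv u.2
  sum_eq u := by rw [sv]; ring
  sum_sq u := S.sum_sq_C hi u.2
  sum_s := S.sum_sv hi
  sum_q := S.sum_qv hi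
  mul := S.mul_row hi
  inj u v hs hC := Subtype.ext (lam_inj S.multFree fun χ => by
    by_cases h1 : χ = S.cTriv
    · subst h1
      have hk : (S.kv u.1 : ℤ) = S.kv v.1 := by
        have e1 : (S.sv u.1) = ∑ m, (S.Cv u.1 m : ℤ) - S.kv u.1 := rfl
        have e2 : (S.sv v.1) = ∑ m, (S.Cv v.1 m : ℤ) - S.kv v.1 := rfl
        rw [hC] at e1
        omega
      have hk' : S.kv u.1 = S.kv v.1 := by exact_mod_cast hk
      show S.lm u.1 _ = S.lm v.1 _
      rw [S.lam_triv, S.lam_triv, hk']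
    by_cases h2 : χ = S.cBeta
    · subst h2
      show S.lm u.1 _ = S.lm v.1 _
      rw [S.lam_beta hi u.2, S.lam_beta hi v.2, hs]
    obtain ⟨r, hr⟩ : ∃ r, res S.hx χ.1 r ≠ 0 := by
      by_contra h
      push Not at h
      haveI := Fintype.ofFinite (Cfsg.IrrCharacter G)
      exact S.eq_zero_of_res χ.1 h
    have hr0 : r ≠ 0 := fun e => hr (e ▸ S.res_zero_of_ne h1 h2)
    have e := S.gam_eq hi (a := Units.mk0 r hr0) h2 hr
    show S.lm u.1 χ = S.lm v.1 χ
    rw [e, ← S.ft_f hi u.2, ← S.ft_f hi v.2, hs, hC])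

end Setup

end Cfsg.Agent.PrimeBlock.DoubleDegree
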