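import Cfsg.Agent.Lib.PrimeBlock.DoubleDegree.Algebra
import Cfsg.Agent.Lib.PrimeBlock.DoubleDegree.Fourier
import Cfsg.Agent.OddChar.PowTwist

/-!
# The permutation character of a primitive group of degree `2 p`
-/

set_option autoImplicit false
set_option linter.style.haveILetI false
set_option linter.unusedSectionVars false

namespace Cfsg.Agent.PrimeBlock.DoubleDegree

open Finset Cfsg.Agent.Characters Cfsg.Agent.Perm.PermModule Cfsg.Agent.Perm.CentraliserRing
open scoped ComplexConjugate Classical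

universe u w

/-- A primitive group of degree `2 p` with a fixed-point-free element of order `p`. -/
structure Setup (p : ℕ) (G : Type u) [Group G] (Ω : Type w) [MulAction G Ω] where
  x : G
  hp : p.Prime
  hx : orderOf x = p
  hfree : ∀ c : Ω, x • c ≠ c
  hprim : MulAction.IsPreprimitive G Ω
  hfaith : FaithfulSMul G Ω
  hcard : Nat.card Ω = 2 * p

variable {p : ℕ} [Fact p.Prime] {G : Type u} [Group G] [Fintype G] {Ω : Type w} [Fintype Ω]
  [MulAction G Ω]

namespace Setup

variable (S : Setup p G Ω)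

include S in
theorem pretrans : MulAction.IsPretransitive G Ω := S.hprim.toIsPretransitive

include S in
theorem card_eq : Fintype.card Ω = 2 * p := by rw [← Nat.card_eq_fintype_card, S.hcard]

include S in
theorem nonempty : Nonempty Ω :=
  Fintype.card_pos_iff.1 (by rw [S.card_eq]; have := S.hp.pos; omega)

include S in
theorem nontriv : Nontrivial Ω :=
  Fintype.one_lt_card_iff_nontrivial.1 (by rw [S.card_eq]; have := S.hp.pos; omega)

theorem pow_card : S.x ^ p = 1 := orderOf_dvd_iff_pow_eq_one.1 (dvd_of_eq S.hx)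

theorem free_pow {j : ZMod p} (hj : j ≠ 0) (c : Ω) : S.x ^ j.val • c ≠ c := fun h => by
  apply S.hfree c
  obtain ⟨i, hi⟩ : ∃ i : ℕ, ((j.val * i : ℕ) : ZMod p) = 1 :=
    ⟨(j⁻¹).val, by rw [Nat.cast_mul, ZMod.natCast_zmod_val, ZMod.natCast_zmod_val, mul_inv_cancel₀ hj]⟩
  have hi' : S.x ^ (j.val * i) = S.x := by
    rw [pow_eq_pow_mod _ S.pow_card, ← ZMod.val_natCast, hi, ZMod.val_one, pow_one]
  have hmem : S.x ^ j.val ∈ MulAction.stabilizer G c := h
  have := (MulAction.stabilizer G c).pow_mem hmem i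
  rw [← pow_mul, hi'] at this
  exact this

theorem perm_pow (j : ZMod p) :
    permChar G Ω (S.x ^ j.val) = if j = 0 then (2 * p : ℂ) else 0 := by
  unfold permChar
  split_ifs with h
  · subst h
    rw [ZMod.val_zero, pow_zero, show MulAction.fixedBy Ω (1 : G) = Set.univ from
      Set.eq_univ_of_forall fun a => by simp, Nat.card_univ, S.hcard]
    push_cast
    rfl
  · rw [Nat.cast_eq_zero, Nat.card_eq_zero]
    exact Or.inl ⟨fun c => S.free_pow h c.1 c.2⟩

omit [Fintype Ω] in
theorem permChar_isCharacter [Finite Ω] : Cfsg.IsCharacter G (permChar G Ω) := by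
  rw [← character_permRep]; exact isCharacter_character _

/-- The multiplicity of a character. -/
noncomputable def mult (_S : Setup p G Ω) (χ : Cfsg.IrrCharacter G) : ℕ :=
  (classInner_char_nat (permChar_isCharacter (G := G) (Ω := Ω)) (irr_isCharacter χ)).choose

theorem mult_spec (χ : Cfsg.IrrCharacter G) :
    Cfsg.classInner (permChar G Ω) (χ : G → ℂ) = (S.mult χ : ℂ) :=
  (classInner_char_nat (permChar_isCharacter (G := G) (Ω := Ω)) (irr_isCharacter χ)).choose_spec

theorem mult_triv : S.mult (trivIrr G) = 1 := by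
  haveI := S.pretrans
  haveI := S.nonempty
  have h := classInner_permChar_one (G := G) (Ω := Ω)
  have h2 := S.mult_spec (trivIrr G)
  rw [trivIrr_coe, h] at h2
  exact_mod_cast h2.symm

theorem sum_mult_res [Fintype (Cfsg.IrrCharacter G)] (r : ZMod p) :
    ∑ χ, S.mult χ * res S.hx χ r = 2 := by
  have hπ := classFun_eq_sum (char_isClassFunction (permChar_isCharacter (G := G) (Ω := Ω)))
  have h := ft_ext (p := p) (Γ := fun r => ((∑ χ, S.mult χ * res S.hx χ r : ℕ) : ℂ))
    (Γ' := fun _ => (2 : ℂ)) fun m => by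
    calc ∑ r, ((∑ χ, S.mult χ * res S.hx χ r : ℕ) : ℂ) * ψ p (r * m)
        = ∑ χ, (S.mult χ : ℂ) * (χ : G → ℂ) (S.x ^ m.val) := by
          simp only [res_spec S.hx, mul_sum, Nat.cast_sum, Nat.cast_mul, sum_mul]
          rw [sum_comm]
          exact sum_congr rfl fun χ _ => sum_congr rfl fun r _ => by ring
      _ = permChar G Ω (S.x ^ m.val) := by
          conv_rhs => rw [hπ]
          simp [Finset.sum_apply, S.mult_spec]
      _ = _ := by rw [S.perm_pow, ← mul_sum, sum_ψ]; split_ifs <;> ring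
  exact_mod_cast congrFun h r

theorem eq_zero_of_res [Fintype (Cfsg.IrrCharacter G)] (χ : Cfsg.IrrCharacter G)
    (h : ∀ r, res S.hx χ r = 0) : False := by
  have := deg_eq_sum_res S.hx χ
  rw [sum_eq_zero fun r _ => h r, Nat.cast_zero] at this
  exact irr_one_ne_zero χ.2 this

/-- The constituent other than the principal one with a fixed point on `⟨x⟩`. -/
theorem exists_beta : ∃ β : Cfsg.IrrCharacter G, β ≠ trivIrr G ∧ S.mult β = 1 ∧ res S.hx β 0 = 1 ∧
    ∀ χ, χ ≠ trivIrr G → χ ≠ β → S.mult χ * res S.hx χ 0 = 0 := by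
  haveI := Fintype.ofFinite (Cfsg.IrrCharacter G)
  have h := S.sum_mult_res 0
  rw [← add_sum_erase _ _ (mem_univ (trivIrr G)), S.mult_triv, res_triv, if_pos rfl] at h
  obtain ⟨β, hβ, hβ0⟩ : ∃ β ∈ univ.erase (trivIrr G), S.mult β * res S.hx β 0 ≠ 0 :=
    exists_ne_zero_of_sum_ne_zero (by omega)
  rw [← add_sum_erase _ _ hβ] at h
  have h1 : S.mult β * res S.hx β 0 = 1 := by omega
  have h2 : ∑ χ ∈ (univ.erase (trivIrr G)).erase β, S.mult χ * res S.hx χ 0 = 0 := by omega
  have hm : S.mult β = 1 := Nat.eq_one_of_mul_eq_one_right h1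
  have hr : res S.hx β 0 = 1 := Nat.eq_one_of_mul_eq_one_left h1
  exact ⟨β, (mem_erase.1 hβ).1, hm, hr, fun χ h3 h4 =>
    sum_eq_zero_iff.1 h2 χ (mem_erase.2 ⟨h4, mem_erase.2 ⟨h3, mem_univ _⟩⟩)⟩

/-- The second constituent. -/
noncomputable def beta : Cfsg.IrrCharacter G := S.exists_beta.choose

theorem beta_spec : S.beta ≠ trivIrr G ∧ S.mult S.beta = 1 ∧ res S.hx S.beta 0 = 1 ∧
    ∀ χ, χ ≠ trivIrr G → χ ≠ S.beta → S.mult χ * res S.hx χ 0 = 0 := S.exists_beta.choose_spec

theorem exists_exp (a : (ZMod p)ˣ) (_S : Setup p G Ω) :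
    ∃ k : ℕ, k.Coprime (Nat.card G) ∧ (k : ZMod p) = (a : ZMod p) := by
  haveI : NeZero (Nat.card G) := ⟨Nat.card_pos.ne'⟩
  have hd : p ∣ Nat.card G := _S.hx ▸ orderOf_dvd_natCard _
  obtain ⟨U, hU⟩ := ZMod.unitsMap_surjective hd a
  refine ⟨(U : ZMod (Nat.card G)).val, ZMod.val_coe_unit_coprime U, ?_⟩
  rw [← hU, ZMod.unitsMap_val, ZMod.natCast_val]

/-- The twist of a constituent by a residue. -/
noncomputable def tw (a : (ZMod p)ˣ) (χ : Cfsg.IrrCharacter G) : Cfsg.IrrCharacter G :=
  ⟨fun g => (χ : G → ℂ) (g ^ (exists_exp a S).choose),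
    OddChar.PowTwist.isIrr_comp_pow χ.2 (exists_exp a S).choose_spec.1⟩

theorem mult_tw (a : (ZMod p)ˣ) (χ : Cfsg.IrrCharacter G) : S.mult (S.tw a χ) = S.mult χ := by
  have hk := (exists_exp a S).choose_spec.1
  set k := (exists_exp a S).choose
  have h : Cfsg.classInner (permChar G Ω) (S.tw a χ : G → ℂ) =
      Cfsg.classInner (permChar G Ω) (χ : G → ℂ) := by
    rw [classInner_def, classInner_def]
    congr 1
    refine Fintype.sum_equiv (powCoprime (G := G) hk.symm) _ _ fun g => ?_
    show permChar G Ω g * _ = permChar G Ω (g ^ k) * _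
    congr 1
    unfold permChar
    congr 1
    obtain ⟨m, hm⟩ := exists_pow_eq_self_of_coprime (x := g) (n := k)
      (hk.coprime_dvd_right (orderOf_dvd_natCard _))
    have h1 : ∀ c : Ω, g • c = c ↔ g ^ k • c = c := fun c =>
      ⟨fun e => (MulAction.stabilizer G c).pow_mem e k, fun e => by
        have := (MulAction.stabilizer G c).pow_mem e m
        rwa [hm] at this⟩
    exact Nat.card_congr (Equiv.subtypeEquivRight h1)
  rw [S.mult_spec, S.mult_spec] at h
  exact_mod_cast h

theorem res_tw (a : (ZMod p)ˣ) (χ : Cfsg.IrrCharacter G) (r : ZMod p) :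
    res S.hx (S.tw a χ) ((a : ZMod p) * r) = res S.hx χ r := by
  have hk := (exists_exp a S).choose_spec.2
  set k := (exists_exp a S).choose
  rw [res_unique S.hx (S.tw a χ) (μ := fun s => res S.hx χ ((↑a⁻¹ : ZMod p) * s)) (fun j => ?_)]
  · rw [Units.inv_mul_cancel_left]
  · show (χ : G → ℂ) ((S.x ^ j.val) ^ k) = _
    have : (S.x ^ j.val) ^ k = S.x ^ ((a : ZMod p) * j).val := by
      rw [← pow_mul, pow_eq_pow_mod _ S.pow_card, ← ZMod.val_natCast, Nat.cast_mul,
        ZMod.natCast_zmod_val, hk, mul_comm]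
    rw [this, res_spec S.hx χ]
    refine Fintype.sum_equiv (Units.mulLeft a) _ _ fun r => ?_
    rw [Units.mulLeft_apply, Units.inv_mul_cancel_left, show r * ((a : ZMod p) * j) = a * r * j by ring]

theorem tw_triv (a : (ZMod p)ˣ) : S.tw a (trivIrr G) = trivIrr G := Subtype.ext rfl

theorem tw_inv_tw {a : (ZMod p)ˣ} {χ : Cfsg.IrrCharacter G} (h : S.tw a χ = trivIrr G) :
    χ = trivIrr G := by
  have hk := (exists_exp a S).choose_spec.1
  refine Subtype.ext (funext fun g => ?_)
  obtain ⟨y, rfl⟩ := (powCoprime (G := G) hk.symm).surjective g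
  exact congrFun (congrArg Subtype.val h) y

theorem tw_beta (a : (ZMod p)ˣ) : S.tw a S.beta = S.beta := by
  obtain ⟨h1, h2, h3, h4⟩ := S.beta_spec
  by_contra hne
  have := h4 _ (fun h => h1 (S.tw_inv_tw h)) hne
  have h5 := S.res_tw a S.beta 0
  rw [mul_zero] at h5
  rw [S.mult_tw, h2, h5, h3] at this
  omega

theorem res_beta_const (r : ZMod p) (hr : r ≠ 0) : res S.hx S.beta r = res S.hx S.beta 1 := by
  have h := S.res_tw (Units.mk0 r hr) S.beta 1
  rwa [S.tw_beta, Units.val_mk0, mul_one] at h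

theorem res_beta_le : res S.hx S.beta 1 ≤ 2 := by
  haveI := Fintype.ofFinite (Cfsg.IrrCharacter G)
  have h := S.sum_mult_res 1
  rw [← add_sum_erase _ _ (mem_univ S.beta), S.beta_spec.2.1] at h
  omega

theorem deg_beta : (S.beta : G → ℂ) 1 = (1 + (p - 1) * res S.hx S.beta 1 : ℕ) := by
  rw [deg_eq_sum_res S.hx, ← add_sum_erase _ _ (mem_univ (0 : ZMod p)), S.beta_spec.2.2.1,
    sum_congr rfl fun r hr => S.res_beta_const r (mem_erase.1 hr).1, sum_const,
    card_erase_of_mem (mem_univ _), card_univ, ZMod.card, smul_eq_mul]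

include S in
/-- The stabiliser of a point is not trivial. -/
theorem stab_ne_bot (c : Ω) : MulAction.stabilizer G c ≠ ⊥ := fun h => by
  haveI := S.nontriv
  haveI := S.hprim
  have hco := MulAction.IsPreprimitive.isCoatom_stabilizer_of_isPreprimitive G c
  rw [h] at hco
  have hne : Subgroup.zpowers S.x ≠ ⊥ := by
    rw [Ne, Subgroup.zpowers_eq_bot]
    intro e
    have := S.hx
    rw [e, orderOf_one] at this
    exact S.hp.ne_one this.symm
  have htop := hco.2 _ (bot_lt_iff_ne_bot.2 hne)
  have hG : Nat.card G = p := by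
    rw [← S.hx, ← Nat.card_zpowers, htop, Subgroup.card_top]
  haveI := S.pretrans
  have h1 := MulAction.index_stabilizer_of_transitive G c
  rw [h, Subgroup.index_bot, hG, S.hcard] at h1
  have := S.hp.pos
  omega

include S in
/-- Point stabilisers fix only one point. -/
theorem stab_injective {a b : Ω} (h : ∀ g : G, g • a = a → g • b = b) : a = b := by
  by_contra hne
  haveI := S.nontriv
  haveI := S.hprim
  haveI := S.pretrans
  haveI := S.hfaith
  have hle : MulAction.stabilizer G a ≤ MulAction.stabilizer G b := h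
  have heq : MulAction.stabilizer G a = MulAction.stabilizer G b := by
    refine Subgroup.eq_of_le_of_card_ge hle (le_of_eq ?_)
    have h1 := (MulAction.stabilizer G a).card_mul_index
    have h2 := (MulAction.stabilizer G b).card_mul_index
    rw [MulAction.index_stabilizer_of_transitive] at h1 h2
    exact Nat.eq_of_mul_eq_mul_right (by rw [S.hcard]; have := S.hp.pos; omega) (h2.trans h1.symm)
  obtain ⟨g, hg⟩ := MulAction.exists_smul_eq G a b
  have hgn : g ∈ Subgroup.normalizer (MulAction.stabilizer G a : Set G) := by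
    rw [Subgroup.mem_normalizer_iff]
    intro k
    conv_rhs => rw [heq, ← hg]
    simp only [MulAction.mem_stabilizer_iff, mul_smul, inv_smul_smul, smul_left_cancel_iff]
  have hco := MulAction.IsPreprimitive.isCoatom_stabilizer_of_isPreprimitive G a
  have hlt : MulAction.stabilizer G a < Subgroup.normalizer (MulAction.stabilizer G a : Set G) :=
    lt_of_le_of_ne Subgroup.le_normalizer fun e => hne ((MulAction.mem_stabilizer_iff.1 (e ▸ hgn)).symm.trans hg)
  haveI hn : (MulAction.stabilizer G a).Normal := Subgroup.normalizer_eq_top_iff.1 (hco.2 _ hlt)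
  refine S.stab_ne_bot a ((Subgroup.eq_bot_iff_forall _).2 fun k hk =>
    FaithfulSMul.eq_of_smul_eq_smul (α := Ω) fun c => ?_)
  obtain ⟨f, rfl⟩ := MulAction.exists_smul_eq G a c
  have := hn.conj_mem k hk f⁻¹
  rw [inv_inv, MulAction.mem_stabilizer_iff, mul_smul, mul_smul, inv_smul_eq_iff] at this
  rw [one_smul]
  exact this

theorem not_linear : res S.hx S.beta 1 ≠ 0 := by
  intro h0
  have hd := S.deg_beta
  rw [h0, mul_zero, add_zero, Nat.cast_one] at hd
  obtain ⟨hne1, hm, -, -⟩ := S.beta_spec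
  haveI := S.nontriv
  haveI := S.hprim
  haveI := S.hfaith
  haveI := S.pretrans
  have hb0 : Cfsg.classInner (permChar G Ω) (S.beta : G → ℂ) ≠ 0 := by
    rw [S.mult_spec, hm, Nat.cast_one]; exact one_ne_zero
  obtain ⟨U, hU, hirr, hch⟩ := exists_sub_of_ne_zero S.beta.2 hb0
  haveI := hirr
  haveI := nontrivial_of_isIrreducible (subRep _ U hU)
  obtain ⟨v, hv⟩ := exists_ne (0 : U)
  have hfr : Module.finrank ℂ U = 1 := by
    have : subChar U hU 1 = (Module.finrank ℂ U : ℂ) := Representation.char_one _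
    rw [hch, hd] at this
    exact_mod_cast this.symm
  have hact : ∀ g : G, Cfsg.permRep ℂ G Ω g (v : Ω → ℂ) = (S.beta : G → ℂ) g • (v : Ω → ℂ) := by
    intro g
    obtain ⟨c, hc⟩ := exists_smul_eq_of_finrank_eq_one hfr hv (subRep _ U hU g v)
    have htr : subChar U hU g = c := by
      have : subRep _ U hU g = c • LinearMap.id := by
        refine LinearMap.ext fun u => ?_
        obtain ⟨d, rfl⟩ := exists_smul_eq_of_finrank_eq_one hfr hv u
        rw [map_smul, ← hc, LinearMap.smul_apply, LinearMap.id_apply, smul_comm]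
      rw [subChar, Representation.character, this, map_smul, LinearMap.trace_id, hfr,
        Nat.cast_one, smul_eq_mul, mul_one]
    rw [hch] at htr
    rw [htr]
    exact (congrArg Subtype.val hc).symm
  have hmul : ∀ g k, (S.beta : G → ℂ) (g * k) = (S.beta : G → ℂ) g * (S.beta : G → ℂ) k :=
    fun g k => char_mul_of_degree_one (irr_isCharacter _) hd g k
  have hne0 : ∀ g, (S.beta : G → ℂ) g ≠ 0 := fun g h => by
    have := hmul g g⁻¹
    rw [mul_inv_cancel, hd, h, zero_mul] at this
    exact one_ne_zero this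
  let f : G →* ℂ := { toFun := (S.beta : G → ℂ), map_one' := hd, map_mul' := hmul }
  by_cases hker : MulAction.fixedPoints f.ker Ω = Set.univ
  · -- a faithful linear character: `G` is commutative
    have hbot : f.ker = ⊥ := (Subgroup.eq_bot_iff_forall _).2 fun k hk =>
      FaithfulSMul.eq_of_smul_eq_smul (α := Ω) fun c => by
        rw [one_smul]
        have : c ∈ MulAction.fixedPoints f.ker Ω := hker ▸ Set.mem_univ c
        exact this ⟨k, hk⟩
    have hinj := (MonoidHom.ker_eq_bot_iff f).1 hbot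
    obtain ⟨a⟩ := S.nonempty
    refine S.stab_ne_bot a ((Subgroup.eq_bot_iff_forall _).2 fun k hk =>
      FaithfulSMul.eq_of_smul_eq_smul (α := Ω) fun c => ?_)
    obtain ⟨g, rfl⟩ := MulAction.exists_smul_eq G a c
    rw [one_smul, ← mul_smul, hinj (show f (k * g) = f (g * k) by rw [map_mul, map_mul, mul_comm]),
      mul_smul, MulAction.mem_stabilizer_iff.1 hk]
  · haveI : MulAction.IsPretransitive f.ker Ω :=
      MulAction.IsQuasiPreprimitive.isPretransitive_of_normal (G := G) hker
    have hconst : ∀ a b : Ω, (v : Ω → ℂ) a = (v : Ω → ℂ) b := fun a b => by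
      obtain ⟨⟨k, hk⟩, rfl⟩ := MulAction.exists_smul_eq f.ker a b
      have h2 : (S.beta : G → ℂ) k = 1 := hk
      have := congrFun (hact k) (k • a)
      rw [permRep_apply, inv_smul_smul, h2, one_smul] at this
      exact this
    refine hne1 (Subtype.ext (funext fun g => ?_))
    obtain ⟨c, hc⟩ := Function.ne_iff.1 (fun e : (v : Ω → ℂ) = 0 => hv (Subtype.ext e))
    have h3 := congrFun (hact g) c
    rw [permRep_apply, Pi.smul_apply, smul_eq_mul, hconst _ c] at h3
    rw [trivIrr_coe]
    exact (mul_right_cancel₀ hc (by rw [← h3, one_mul])).symm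

theorem res_beta_one_or_two : res S.hx S.beta 1 = 1 ∨ res S.hx S.beta 1 = 2 := by
  have := S.res_beta_le
  have := S.not_linear
  omega

/-- When the degree of `β` is `2 p - 1` there are just two constituents. -/
theorem cst_two (h2 : res S.hx S.beta 1 = 2) (χ : Cfsg.IrrCharacter G) (hχ : S.mult χ ≠ 0) :
    χ = trivIrr G ∨ χ = S.beta := by
  haveI := Fintype.ofFinite (Cfsg.IrrCharacter G)
  by_contra hne
  push Not at hne
  refine S.eq_zero_of_res χ fun r => ?_
  rcases eq_or_ne r 0 with rfl | hr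
  · exact (Nat.mul_eq_zero.1 (S.beta_spec.2.2.2 χ hne.1 hne.2)).resolve_left hχ
  · have h := S.sum_mult_res r
    rw [← add_sum_erase _ _ (mem_univ S.beta), S.beta_spec.2.1, S.res_beta_const r hr, h2] at h
    have h0 : ∑ χ ∈ univ.erase S.beta, S.mult χ * res S.hx χ r = 0 := by omega
    exact (Nat.mul_eq_zero.1 (sum_eq_zero_iff.1 h0 χ (mem_erase.2 ⟨hne.2, mem_univ _⟩))).resolve_left hχ

/-- The case of three or more constituents. -/
theorem mult_le (χ : Cfsg.IrrCharacter G) : S.mult χ ≤ 1 := by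
  haveI := Fintype.ofFinite (Cfsg.IrrCharacter G)
  by_contra hc
  have h1 : χ ≠ trivIrr G := fun e => by rw [e, S.mult_triv] at hc; omega
  have h2 : χ ≠ S.beta := fun e => by rw [e, S.beta_spec.2.1] at hc; omega
  rcases S.res_beta_one_or_two with hi | hi
  · refine S.eq_zero_of_res χ fun r => ?_
    rcases eq_or_ne r 0 with rfl | hr
    · exact (Nat.mul_eq_zero.1 (S.beta_spec.2.2.2 χ h1 h2)).resolve_left (by omega)
    · have h := S.sum_mult_res r
      rw [← add_sum_erase _ _ (mem_univ S.beta), S.beta_spec.2.1, S.res_beta_const r hr, hi] at h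
      have h3 := single_le_sum (f := fun χ => S.mult χ * res S.hx χ r) (fun _ _ => Nat.zero_le _)
        (mem_erase.2 ⟨h2, mem_univ χ⟩)
      by_contra h4
      have : 1 ≤ res S.hx χ r := Nat.pos_of_ne_zero h4
      nlinarith
  · exact (S.cst_two hi χ (by omega)).elim h1 h2

include S in
theorem multFree : IsMultFree G Ω := fun χ hχ => by
  have h := S.mult_spec ⟨χ, hχ⟩
  have h1 := S.mult_le ⟨χ, hχ⟩
  rcases Nat.le_one_iff_eq_zero_or_eq_one.1 h1 with e | e <;> rw [e] at h
  · exact Or.inl (by rw [h, Nat.cast_zero])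
  · exact Or.inr (by rw [h, Nat.cast_one])

end Setup

end Cfsg.Agent.PrimeBlock.DoubleDegree
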