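import Mathlib

/-!
# The orbital table of a primitive group of degree `2 p`

The arithmetic of the orbitals of a primitive group of degree twice a prime `p`: `C u m` counts, for
each cycle of an element `x` of order `p`, whether `(c, x ^ m c)` lies in the orbital `u`; `s u` is
the eigenvalue on the constituent of degree `p` and `k u` is the suborbit length.
-/

set_option autoImplicit false
set_option linter.style.haveILetI false
set_option linter.unusedSectionVars false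

namespace Cfsg.Agent.PrimeBlock.DoubleDegree

open Finset

universe w

variable {p : ℕ} [Fact p.Prime]

/-- The unit mass at zero. -/
def dlt (p : ℕ) : ZMod p → ℤ := fun m => if m = 0 then 1 else 0

/-- Convolution on `ZMod p`. -/
def conv [NeZero p] (f g : ZMod p → ℤ) (m : ZMod p) : ℤ := ∑ u : ZMod p, f u * g (m - u)

/-- The orbital table. -/
structure Table (p : ℕ) [Fact p.Prime] (ι : Type w) [Fintype ι] where
  H : Subgroup (ZMod p)ˣ
  C : ι → ZMod p → ℕ
  s : ι → ℤ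
  k : ι → ℕ
  C_zero : ∀ u, C u 0 = 0
  C_inv : ∀ u, ∀ h ∈ H, ∀ m : ZMod p, C u (h * m) = C u m
  sum_C : ∀ m : ZMod p, m ≠ 0 → ∑ u, C u m = 2
  card_eq : Fintype.card ι = H.index + 1
  k_ge : ∀ u, 2 ≤ k u
  sum_eq : ∀ u, ((k u : ℕ) : ℤ) + s u = ∑ m, (C u m : ℤ)
  sum_sq : ∀ u, ∑ m, (C u m : ℤ) ^ 2 = 2 * (k u : ℤ) - 2 * s u ^ 2
  sum_s : ∑ u, s u = -1
  sum_q : ∑ u, ((s u : ℚ) ^ 2 / (k u : ℚ)) = 1
  mul : ∀ u v, ∃ (x0 : ℤ) (x : ι → ℤ), s u * s v = x0 + ∑ z, x z * s z ∧ ∃ c : ℤ, ∀ m,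
    conv (fun a => (C u a : ℤ) - s u * dlt p a) (fun a => (C v a : ℤ) - s v * dlt p a) m
      - x0 * dlt p m - ∑ z, x z * ((C z m : ℤ) - s z * dlt p m) = c
  inj : ∀ u v, s u = s v → C u = C v → u = v

namespace Table

open scoped Classical

variable {ι : Type w} [Fintype ι] (T : Table p ι)

noncomputable local instance : Fintype ((ZMod p)ˣ ⧸ T.H) := Fintype.ofFinite _

/-- The value on a coset. -/
noncomputable def cnt (u : ι) (K : (ZMod p)ˣ ⧸ T.H) : ℕ := T.C u ((K.out : (ZMod p)ˣ) : ZMod p)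

theorem C_eq (u : ι) (a : (ZMod p)ˣ) : T.C u (a : ZMod p) = T.cnt u (a : (ZMod p)ˣ ⧸ T.H) := by
  obtain ⟨h, hh⟩ := QuotientGroup.mk_out_eq_mul T.H a
  rw [cnt, hh, Units.val_mul, mul_comm, T.C_inv u h h.2]

theorem sum_units {M : Type*} [AddCommMonoid M] (f : ZMod p → M) (hf : f 0 = 0) :
    ∑ m, f m = ∑ a : (ZMod p)ˣ, f (a : ZMod p) := by
  classical
  rw [← Finset.add_sum_erase _ _ (mem_univ (0 : ZMod p)), hf, zero_add]
  refine (Finset.sum_bij (fun (a : (ZMod p)ˣ) _ => (a : ZMod p))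
    (fun a _ => mem_erase.2 ⟨a.ne_zero, mem_univ _⟩) (fun a _ b _ h => Units.ext h)
    (fun m hm => ⟨Units.mk0 m (mem_erase.1 hm).1, mem_univ _, rfl⟩) fun a _ => rfl).symm

theorem card_fiber (K : (ZMod p)ˣ ⧸ T.H) :
    Nat.card {a : (ZMod p)ˣ // (a : (ZMod p)ˣ ⧸ T.H) = K} = Nat.card T.H :=
  Nat.card_congr
    { toFun := fun a => ⟨K.out⁻¹ * a.1, by
        rw [← QuotientGroup.eq, QuotientGroup.out_eq', a.2]⟩
      invFun := fun h => ⟨K.out * h.1, by
        rw [QuotientGroup.mk_mul_of_mem _ h.2, QuotientGroup.out_eq']⟩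
      left_inv := fun a => Subtype.ext (mul_inv_cancel_left _ _)
      right_inv := fun h => Subtype.ext (inv_mul_cancel_left _ _) }

theorem sum_cosets {M : Type*} [AddCommMonoid M] (F : (ZMod p)ˣ ⧸ T.H → M) :
    ∑ a : (ZMod p)ˣ, F (a : (ZMod p)ˣ ⧸ T.H) = Nat.card T.H • ∑ K, F K := by
  classical
  rw [Finset.smul_sum, ← Fintype.sum_fiberwise (fun a : (ZMod p)ˣ => (a : (ZMod p)ˣ ⧸ T.H))
    (fun a => F (a : (ZMod p)ˣ ⧸ T.H))]
  refine sum_congr rfl fun K _ => ?_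
  rw [← T.card_fiber K, Nat.card_eq_fintype_card, ← card_univ, ← sum_const]
  exact sum_congr rfl fun a _ => by rw [a.2]

/-- The number of cosets met, with multiplicity. -/
noncomputable def num (u : ι) : ℕ := ∑ K, T.cnt u K

theorem e_pos : 0 < Nat.card T.H := Nat.card_pos

theorem sum_C_eq (u : ι) : ∑ m, (T.C u m : ℤ) = (Nat.card T.H : ℤ) * T.num u := by
  rw [Table.sum_units (fun m => (T.C u m : ℤ)) (by simp [T.C_zero]),
    sum_congr rfl fun a _ => by rw [T.C_eq u a], T.sum_cosets fun K => (T.cnt u K : ℤ), num,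
    nsmul_eq_mul, Nat.cast_sum]

theorem sum_C_sq_eq (u : ι) :
    ∑ m, (T.C u m : ℤ) ^ 2 = (Nat.card T.H : ℤ) * ∑ K, (T.cnt u K : ℤ) ^ 2 := by
  rw [Table.sum_units (fun m => (T.C u m : ℤ) ^ 2) (by simp [T.C_zero]),
    sum_congr rfl fun a _ => by rw [T.C_eq u a], T.sum_cosets fun K => (T.cnt u K : ℤ) ^ 2,
    nsmul_eq_mul]

theorem k_eq (u : ι) : (T.k u : ℤ) = (Nat.card T.H : ℤ) * T.num u - T.s u := by
  have := T.sum_eq u
  rw [T.sum_C_eq] at this
  omega

theorem moment (u : ι) :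
    2 * (T.s u ^ 2 + T.s u) = (Nat.card T.H : ℤ) * (2 * T.num u - ∑ K, (T.cnt u K : ℤ) ^ 2) := by
  have h := T.sum_sq u
  rw [T.sum_C_sq_eq, T.k_eq] at h
  linear_combination h

theorem num_pos (u : ι) : 0 < T.num u := by
  by_contra h
  have h0 : T.num u = 0 := by omega
  have hc : ∀ K, T.cnt u K = 0 := fun K => (sum_eq_zero_iff.1 h0) K (mem_univ _)
  have h1 := T.moment u
  simp only [h0, hc, Nat.cast_zero, mul_zero, sum_const_zero, ne_eq, OfNat.ofNat_ne_zero,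
    not_false_eq_true, zero_pow, sub_zero, mul_eq_zero, false_or] at h1
  have h2 := T.k_eq u
  rw [h0, Nat.cast_zero, mul_zero, zero_sub] at h2
  have h3 := T.k_ge u
  nlinarith

theorem sum_num : ∑ u, T.num u = 2 * T.H.index := by
  simp only [num]
  rw [sum_comm, Subgroup.index, Nat.card_eq_fintype_card, mul_comm, ← card_univ, ← smul_eq_mul,
    ← sum_const]
  exact sum_congr rfl fun K _ => T.sum_C _ (Units.ne_zero _)

/-- The orbitals meeting only one coset. -/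
noncomputable def ones : Finset ι := univ.filter fun u => T.num u = 1

theorem mem_ones {u : ι} : u ∈ T.ones ↔ T.num u = 1 := by simp [ones]

theorem two_le_card_ones : 2 ≤ T.ones.card := by
  classical
  have h1 : ∑ u, ((if T.num u = 1 then 1 else 2) : ℕ) ≤ ∑ u, T.num u := sum_le_sum fun u _ => by
    have := T.num_pos u
    split_ifs <;> omega
  rw [sum_ite, sum_const, sum_const, T.sum_num] at h1
  have h2 := card_filter_add_card_filter_not (s := (univ : Finset ι)) (p := fun u => T.num u = 1)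
  rw [card_univ, T.card_eq] at h2
  simp only [smul_eq_mul] at h1 h2
  unfold ones
  omega

/-- The index of an orbital meeting one coset. -/
theorem one_spec {u : ι} (hu : u ∈ T.ones) :
    (Nat.card T.H : ℤ) = 2 * (T.s u ^ 2 + T.s u) ∧ (T.k u : ℤ) = T.s u * (2 * T.s u + 1) ∧
      T.s u ≠ 0 ∧ T.s u ≠ -1 := by
  classical
  have hn := T.mem_ones.1 hu
  have hsq : ∑ K, (T.cnt u K : ℤ) ^ 2 = 1 := by
    have h1 : ∀ K, (T.cnt u K : ℤ) ^ 2 = T.cnt u K := fun K => by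
      have : T.cnt u K ≤ 1 := hn ▸ single_le_sum (fun K _ => Nat.zero_le (T.cnt u K)) (mem_univ K)
      interval_cases T.cnt u K <;> norm_num
    rw [sum_congr rfl fun K _ => h1 K, ← Nat.cast_sum, show ∑ K, T.cnt u K = 1 from hn, Nat.cast_one]
  have h1 := T.moment u
  rw [hsq, hn] at h1
  have h2 : (Nat.card T.H : ℤ) = 2 * (T.s u ^ 2 + T.s u) := by linear_combination -h1
  have h3 : (0 : ℤ) < Nat.card T.H := by exact_mod_cast T.e_pos
  refine ⟨h2, ?_, fun h => ?_, fun h => ?_⟩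
  · rw [T.k_eq, hn, Nat.cast_one, mul_one, h2]; ring
  · rw [h] at h2; omega
  · rw [h] at h2; omega

/-- The parameter of the table. -/
theorem exists_a : ∃ a : ℕ, 0 < a ∧ (Nat.card T.H : ℤ) = 2 * ((a : ℤ) ^ 2 + a) ∧
    ∀ u ∈ T.ones, T.s u = a ∨ T.s u = -(a + 1 : ℤ) := by
  obtain ⟨u, hu⟩ := card_pos.1 (T.two_le_card_ones.trans_lt' Nat.zero_lt_two)
  obtain ⟨he, -, h0, h1⟩ := T.one_spec hu
  obtain ⟨a, ha, hea⟩ : ∃ a : ℕ, 0 < a ∧ (Nat.card T.H : ℤ) = 2 * ((a : ℤ) ^ 2 + a) := by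
    rcases le_or_gt 0 (T.s u) with h | h
    · exact ⟨(T.s u).toNat, by omega, by rw [Int.toNat_of_nonneg h]; exact he⟩
    · refine ⟨(-T.s u - 1).toNat, by omega, ?_⟩
      rw [Int.toNat_of_nonneg (by omega), he]; ring
  refine ⟨a, ha, hea, fun v hv => ?_⟩
  have hv' := (T.one_spec hv).1
  have : (T.s v - a) * (T.s v + a + 1) = 0 := by
    rw [hea] at hv'
    nlinarith [hv']
  rcases mul_eq_zero.1 this with h | h
  · left; omega
  · right; omega

/-- The coset met by an orbital meeting one coset. -/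
theorem exists_coset {u : ι} (hu : u ∈ T.ones) :
    ∃ K0, T.cnt u K0 = 1 ∧ ∀ K, K ≠ K0 → T.cnt u K = 0 := by
  classical
  have hn : ∑ K, T.cnt u K = 1 := T.mem_ones.1 hu
  obtain ⟨K0, -, hK0⟩ : ∃ K ∈ univ, T.cnt u K ≠ 0 :=
    exists_ne_zero_of_sum_ne_zero (by rw [hn]; exact one_ne_zero)
  rw [← add_sum_erase _ _ (mem_univ K0)] at hn
  refine ⟨K0, by omega, fun K hK => ?_⟩
  have h0 : ∑ K ∈ univ.erase K0, T.cnt u K = 0 := by omega
  exact sum_eq_zero_iff.1 h0 K (mem_erase.2 ⟨hK, mem_univ _⟩)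

/-- The share of an orbital in the second orthogonality relation. -/
def q (u : ι) : ℚ := (T.s u : ℚ) ^ 2 / (T.k u : ℚ)

theorem q_nonneg (u : ι) : 0 ≤ T.q u := div_nonneg (sq_nonneg _) (Nat.cast_nonneg _)

theorem k_ne (u : ι) : (T.k u : ℚ) ≠ 0 := by
  have := T.k_ge u
  exact Nat.cast_ne_zero.2 (by omega)

theorem q_mul (u : ι) : T.q u * (T.k u : ℚ) = (T.s u : ℚ) ^ 2 := div_mul_cancel₀ _ (T.k_ne u)

theorem q_eq_zero {u : ι} (h : T.q u = 0) : T.s u = 0 := by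
  have := T.q_mul u
  rw [h, zero_mul] at this
  exact_mod_cast (pow_eq_zero_iff two_ne_zero).1 this.symm

/-- `q u = s / (2 s + 1)` for orbitals meeting one coset. -/
theorem q_one {u : ι} (hu : u ∈ T.ones) : T.q u * (2 * T.s u + 1 : ℚ) = T.s u := by
  obtain ⟨-, hk, h0, -⟩ := T.one_spec hu
  have h1 := T.q_mul u
  rw [show (T.k u : ℚ) = T.s u * (2 * T.s u + 1) by exact_mod_cast hk] at h1
  have : (T.s u : ℚ) ≠ 0 := Int.cast_ne_zero.2 h0
  refine mul_left_cancel₀ this ?_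
  linear_combination h1

variable {a : ℕ}

theorem q_pos_case {u : ι} (hu : u ∈ T.ones) (hs : T.s u = a) :
    T.q u = (a : ℚ) / (2 * a + 1) := by
  have h := T.q_one hu
  rw [hs] at h
  push_cast at h
  rw [eq_div_iff (by positivity)]
  exact h

theorem q_neg_case {u : ι} (hu : u ∈ T.ones) (hs : T.s u = -(a + 1 : ℤ)) :
    T.q u = ((a : ℚ) + 1) / (2 * a + 1) := by
  have h := T.q_one hu
  rw [hs] at h
  push_cast at h
  rw [eq_div_iff (by positivity)]
  linear_combination -h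

theorem q_ge {u : ι} (hu : u ∈ T.ones) (hs : T.s u = a ∨ T.s u = -(a + 1 : ℤ)) :
    (a : ℚ) / (2 * a + 1) ≤ T.q u := by
  rcases hs with hs | hs
  · rw [T.q_pos_case hu hs]
  · rw [T.q_neg_case hu hs]
    gcongr
    linarith

/-- Exactly two orbitals meet only one coset. -/
theorem card_ones (ha : 0 < a) (hs : ∀ u ∈ T.ones, T.s u = a ∨ T.s u = -(a + 1 : ℤ)) :
    T.ones.card = 2 := by
  classical
  by_contra hne
  have h2 := T.two_le_card_ones
  have h3 : (3 : ℚ) ≤ T.ones.card := by exact_mod_cast (show 3 ≤ T.ones.card by omega)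
  have haq : (1 : ℚ) ≤ a := by exact_mod_cast ha
  have hd : (0 : ℚ) < 2 * (a : ℚ) + 1 := by positivity
  have hsplit : ∑ u ∈ T.ones, T.q u + ∑ u ∈ T.onesᶜ, T.q u = 1 := by
    rw [sum_add_sum_compl]; exact T.sum_q
  have hrest : 0 ≤ ∑ u ∈ T.onesᶜ, T.q u := sum_nonneg fun u _ => T.q_nonneg u
  have hlow : (T.ones.card : ℚ) * ((a : ℚ) / (2 * a + 1)) ≤ ∑ u ∈ T.ones, T.q u := by
    rw [← nsmul_eq_mul]
    exact card_nsmul_le_sum _ _ _ fun u hu => T.q_ge hu (hs u hu)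
  have h13 : (1 : ℚ) / 3 ≤ (a : ℚ) / (2 * a + 1) := by
    rw [div_le_div_iff₀ (by norm_num) hd]; linarith
  have hmul : (3 : ℚ) * (1 / 3) ≤ (T.ones.card : ℚ) * ((a : ℚ) / (2 * a + 1)) :=
    mul_le_mul h3 h13 (by norm_num) (by linarith)
  have hall0 : ∀ u ∈ T.onesᶜ, T.q u = 0 :=
    (sum_eq_zero_iff_of_nonneg fun u _ => T.q_nonneg u).1 (by linarith)
  have hone : ∀ u ∈ T.ones, T.q u = (a : ℚ) / (2 * a + 1) := fun u hu => by
    have := (sum_eq_sum_iff_of_le fun u hu => T.q_ge hu (hs u hu)).1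
      (le_antisymm (sum_le_sum fun u hu => T.q_ge hu (hs u hu)) ?_) u hu
    · exact this.symm
    · rw [sum_const, nsmul_eq_mul]; linarith
  have hsa : ∀ u ∈ T.ones, T.s u = a := fun u hu => by
    refine (hs u hu).resolve_right fun hn => ?_
    have := hone u hu
    rw [T.q_neg_case hu hn, div_left_inj' hd.ne'] at this
    linarith
  have hsum := T.sum_s
  rw [← sum_add_sum_compl T.ones, sum_congr rfl hsa,
    sum_congr rfl fun u hu => T.q_eq_zero (hall0 u hu), sum_const_zero, sum_const, add_zero,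
    nsmul_eq_mul] at hsum
  have : (0 : ℤ) ≤ (T.ones.card : ℤ) * (a : ℤ) := by positivity
  omega

/-- Two orbitals meeting one coset cannot both have `s = -(a + 1)`. -/
theorem not_both_neg (ha : 0 < a) {u v : ι} (hu : u ∈ T.ones) (hv : v ∈ T.ones) (huv : u ≠ v)
    (h1 : T.s u = -(a + 1 : ℤ)) : T.s v ≠ -(a + 1 : ℤ) := fun h2 => by
  classical
  have hle : T.q u + T.q v ≤ 1 := by
    rw [← sum_pair huv]
    exact T.sum_q ▸ sum_le_univ_sum_of_nonneg T.q_nonneg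
  rw [T.q_neg_case hu h1, T.q_neg_case hv h2, ← add_div, div_le_one (by positivity)] at hle
  linarith

theorem num_two (hcard : T.ones.card = 2) {u : ι} (hu : u ∉ T.ones) : T.num u = 2 := by
  classical
  have hone : ∑ u ∈ T.ones, T.num u = 2 := by
    rw [sum_congr rfl fun u hu => T.mem_ones.1 hu, sum_const, hcard, smul_eq_mul]
  have hge : ∀ w ∈ T.onesᶜ, 2 ≤ T.num w := fun w hw => by
    have := T.num_pos w
    have := mt T.mem_ones.2 (mem_compl.1 hw)
    omega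
  have h1 := T.sum_num
  rw [← sum_add_sum_compl T.ones, hone] at h1
  have hc : (T.onesᶜ : Finset ι).card = T.H.index - 1 := by
    rw [card_compl, T.card_eq, hcard]; omega
  have hpos : 0 < T.H.index := Nat.pos_of_ne_zero Subgroup.index_ne_zero_of_finite
  have h2 : ∑ w ∈ T.onesᶜ, 2 = ∑ w ∈ T.onesᶜ, T.num w := by
    rw [sum_const, hc, smul_eq_mul]; omega
  exact ((sum_eq_sum_iff_of_le hge).1 h2 u (mem_compl.2 hu)).symm

/-- An orbital meeting two cosets is a double one. -/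
theorem double (ha : 0 < a) (hae : (Nat.card T.H : ℤ) = 2 * ((a : ℤ) ^ 2 + a))
    (hs : ∀ u ∈ T.ones, T.s u = a ∨ T.s u = -(a + 1 : ℤ)) (hcard : T.ones.card = 2) {u : ι}
    (hu : u ∉ T.ones) :
    (∃ K, T.cnt u K = 2 ∧ ∀ K', K' ≠ K → T.cnt u K' = 0) ∧ (T.s u = 0 ∨ T.s u = -1) ∧
      (T.k u : ℤ) = 2 * (Nat.card T.H : ℤ) - T.s u := by
  classical
  have hn : ∑ K, T.cnt u K = 2 := T.num_two hcard hu
  have hk := T.k_eq u
  rw [show T.num u = 2 from hn] at hk
  have hm := T.moment u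
  rw [show T.num u = 2 from hn] at hm
  by_cases h : ∃ K, T.cnt u K = 2
  · obtain ⟨K, hK⟩ := h
    have h0 : ∀ K', K' ≠ K → T.cnt u K' = 0 := fun K' hK' => by
      rw [← add_sum_erase _ _ (mem_univ K), hK] at hn
      have : ∑ K' ∈ univ.erase K, T.cnt u K' = 0 := by omega
      exact sum_eq_zero_iff.1 this K' (mem_erase.2 ⟨hK', mem_univ _⟩)
    refine ⟨⟨K, hK, h0⟩, ?_, by rw [hk]; push_cast; ring⟩
    have hsq : ∑ K', (T.cnt u K' : ℤ) ^ 2 = 4 := by
      rw [sum_eq_single K (fun K' _ hK' => by simp [h0 K' hK']) (fun h => absurd (mem_univ K) h), hK]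
      norm_num
    rw [hsq] at hm
    have : T.s u * (T.s u + 1) = 0 := by push_cast at hm; linarith
    rcases mul_eq_zero.1 this with h | h <;> omega
  · push Not at h
    exfalso
    have h1 : ∀ K, (T.cnt u K : ℤ) ^ 2 = T.cnt u K := fun K => by
      have h2 : T.cnt u K ≤ 2 := hn ▸ single_le_sum (fun K _ => Nat.zero_le (T.cnt u K)) (mem_univ K)
      have := h K
      interval_cases T.cnt u K <;> norm_num at *
    rw [sum_congr rfl fun K _ => h1 K, ← Nat.cast_sum, hn] at hm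
    push_cast at hm hk
    have he : (Nat.card T.H : ℤ) = T.s u * (T.s u + 1) := by nlinarith [hm]
    have ha1 : (1 : ℤ) ≤ a := by exact_mod_cast ha
    have hk2 : (T.k u : ℤ) = T.s u * (2 * T.s u + 1) := by rw [hk, he]; ring
    have hsu : 2 ≤ T.s u ∨ T.s u ≤ -2 := by
      by_contra hc
      push Not at hc
      obtain ⟨c1, c2⟩ := hc
      have : T.s u = -1 ∨ T.s u = 0 ∨ T.s u = 1 := by omega
      rcases this with c | c | c <;> rw [c] at he <;> nlinarith
    have hq : (1 : ℚ) / 3 < T.q u := by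
      have hk3 : (T.k u : ℚ) = T.s u * (2 * T.s u + 1) := by exact_mod_cast hk2
      have hpos : (0 : ℚ) < (T.k u : ℚ) := by
        have := T.k_ge u
        exact_mod_cast (show 0 < T.k u by omega)
      rw [q, lt_div_iff₀ hpos, hk3]
      rcases hsu with c | c
      · have c' : (2 : ℚ) ≤ T.s u := by exact_mod_cast c
        nlinarith
      · have c' : (T.s u : ℚ) ≤ -2 := by exact_mod_cast c
        nlinarith
    have hrest : T.q u + ∑ w ∈ T.ones, T.q w ≤ 1 := by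
      rw [← sum_insert hu]
      exact T.sum_q ▸ sum_le_univ_sum_of_nonneg T.q_nonneg
    have hlow : (2 : ℚ) * ((a : ℚ) / (2 * a + 1)) ≤ ∑ w ∈ T.ones, T.q w := by
      have h5 := card_nsmul_le_sum _ _ _ fun w hw => T.q_ge hw (hs w hw)
      rw [hcard, nsmul_eq_mul] at h5
      exact_mod_cast h5
    have h13 : (1 : ℚ) / 3 ≤ (a : ℚ) / (2 * a + 1) := by
      rw [div_le_div_iff₀ (by norm_num) (by positivity)]
      have : (1 : ℚ) ≤ a := by exact_mod_cast ha
      linarith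
    linarith

open Classical in
/-- The characteristic function of a coset. -/
noncomputable def chi (A : (ZMod p)ˣ ⧸ T.H) : ZMod p → ℤ :=
  fun x => if ∃ a : (ZMod p)ˣ, (a : ZMod p) = x ∧ (a : (ZMod p)ˣ ⧸ T.H) = A then 1 else 0

theorem chi_unit (A : (ZMod p)ˣ ⧸ T.H) (a : (ZMod p)ˣ) :
    T.chi A (a : ZMod p) = if (a : (ZMod p)ˣ ⧸ T.H) = A then 1 else 0 := by
  classical
  unfold chi
  congr 1
  exact propext ⟨fun ⟨b, hb, hb'⟩ => Units.ext hb ▸ hb', fun h => ⟨a, rfl, h⟩⟩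

theorem chi_zero (A : (ZMod p)ˣ ⧸ T.H) : T.chi A 0 = 0 := by
  unfold chi
  rw [if_neg]
  rintro ⟨a, ha, -⟩
  exact a.ne_zero ha

theorem C_eq_chi {u : ι} {K : (ZMod p)ˣ ⧸ T.H} {n : ℕ} (h1 : T.cnt u K = n)
    (h0 : ∀ K', K' ≠ K → T.cnt u K' = 0) (m : ZMod p) : (T.C u m : ℤ) = n * T.chi K m := by
  rcases eq_or_ne m 0 with rfl | hm
  · rw [T.C_zero, T.chi_zero, mul_zero, Nat.cast_zero]
  · obtain ⟨a, rfl⟩ : ∃ a : (ZMod p)ˣ, (a : ZMod p) = m := ⟨Units.mk0 m hm, rfl⟩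
    rw [T.C_eq, T.chi_unit]
    split_ifs with h
    · rw [h, h1, mul_one]
    · rw [h0 _ h, Nat.cast_zero, mul_zero]

theorem conv_expand {A B : (ZMod p)ˣ ⧸ T.H} (c d r : ℤ) (m : ZMod p) :
    conv (fun x => c * T.chi A x) (fun x => d * T.chi B x - r * dlt p x) m =
      c * d * conv (T.chi A) (T.chi B) m - c * r * T.chi A m := by
  simp only [conv, mul_sub, sum_sub_distrib, mul_sum]
  congr 1
  · exact sum_congr rfl fun x _ => by ring
  · rw [sum_eq_single m (fun x _ hx => by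
      rw [dlt, if_neg (sub_ne_zero.2 (Ne.symm hx)), mul_zero, mul_zero]) fun h => absurd (mem_univ m) h,
      dlt, sub_self, if_pos rfl]
    ring

/-- `-1` lies in a subgroup of even order. -/
theorem neg_one_mem (he : Even (Nat.card T.H)) : (-1 : (ZMod p)ˣ) ∈ T.H := by
  haveI := Fact.mk Nat.prime_two
  obtain ⟨h, hh⟩ := exists_prime_orderOf_dvd_card' 2 (even_iff_two_dvd.1 he)
  have h2 : ((h : (ZMod p)ˣ) : ZMod p) ^ 2 = 1 := by
    rw [← Units.val_pow_eq_pow_val, ← Subgroup.coe_pow, ← hh, pow_orderOf_eq_one, Subgroup.coe_one,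
      Units.val_one]
  rcases sq_eq_one_iff.1 h2 with h3 | h3
  · exfalso
    have : h = 1 := Subtype.ext (Units.ext h3)
    rw [this, orderOf_one] at hh
    omega
  · have : (h : (ZMod p)ˣ) = -1 := Units.ext (by simpa using h3)
    exact this ▸ h.2

theorem chi_mul (A : (ZMod p)ˣ ⧸ T.H) (g : (ZMod p)ˣ) (x : ZMod p) :
    T.chi ((g : (ZMod p)ˣ ⧸ T.H) * A) ((g : ZMod p) * x) = T.chi A x := by
  rcases eq_or_ne x 0 with rfl | hx
  · rw [mul_zero, T.chi_zero, T.chi_zero]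
  · obtain ⟨a, rfl⟩ : ∃ a : (ZMod p)ˣ, (a : ZMod p) = x := ⟨Units.mk0 x hx, rfl⟩
    rw [← Units.val_mul, T.chi_unit, T.chi_unit, QuotientGroup.mk_mul]
    simp only [mul_left_cancel_iff]

/-- Representations of `m` in `A + A` against those in `(M * M / A) + M`, `M` the coset of `m`. -/
theorem conv_swap (hneg : (-1 : (ZMod p)ˣ) ∈ T.H) (A : (ZMod p)ˣ ⧸ T.H) (m : (ZMod p)ˣ) :
    conv (T.chi A) (T.chi A) (m : ZMod p) =
      conv (T.chi ((m : (ZMod p)ˣ ⧸ T.H) * (m : (ZMod p)ˣ ⧸ T.H) / A))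
        (T.chi (m : (ZMod p)ˣ ⧸ T.H)) (m : ZMod p) := by
  classical
  -- send `u` to `m ^ 2 / u`
  have hbij : Function.Bijective fun u : ZMod p => (m : ZMod p) ^ 2 * u⁻¹ := by
    refine ⟨fun u v h => ?_, fun v => ⟨(m : ZMod p) ^ 2 * v⁻¹, ?_⟩⟩
    · exact inv_injective (mul_left_cancel₀ (pow_ne_zero 2 m.ne_zero) h)
    · show (m : ZMod p) ^ 2 * ((m : ZMod p) ^ 2 * v⁻¹)⁻¹ = v
      rw [mul_inv, inv_inv, ← mul_assoc, mul_inv_cancel₀ (pow_ne_zero 2 m.ne_zero), one_mul]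
  refine Fintype.sum_equiv (Equiv.ofBijective _ hbij) _ _ fun u => ?_
  show T.chi A u * T.chi A ((m : ZMod p) - u) = T.chi _ ((m : ZMod p) ^ 2 * u⁻¹) *
    T.chi _ ((m : ZMod p) - (m : ZMod p) ^ 2 * u⁻¹)
  rcases eq_or_ne u 0 with rfl | hu
  · simp [T.chi_zero]
  obtain ⟨a, rfl⟩ : ∃ a : (ZMod p)ˣ, (a : ZMod p) = u := ⟨Units.mk0 u hu, rfl⟩
  have e1 : (m : ZMod p) ^ 2 * (a : ZMod p)⁻¹ = ((m * m / a : (ZMod p)ˣ) : ZMod p) := by
    rw [Units.val_div_eq_div_val, Units.val_mul, sq, div_eq_mul_inv]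
  rw [e1, T.chi_unit, T.chi_unit, QuotientGroup.mk_div, QuotientGroup.mk_mul]
  by_cases hA : (a : (ZMod p)ˣ ⧸ T.H) = A
  · rw [if_pos hA, if_pos (by rw [hA]), one_mul, one_mul]
    -- `m - m * m / a = (- m / a) * (m - a)`
    have e2 : (m : ZMod p) - ((m * m / a : (ZMod p)ˣ) : ZMod p) =
        ((-1 * (m / a) : (ZMod p)ˣ) : ZMod p) * ((m : ZMod p) - a) := by
      simp only [Units.val_div_eq_div_val, Units.val_mul, Units.val_neg, Units.val_one]
      field_simp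
      ring
    have e3 : ((-1 * (m / a) : (ZMod p)ˣ) : (ZMod p)ˣ ⧸ T.H) * A = (m : (ZMod p)ˣ ⧸ T.H) := by
      rw [QuotientGroup.mk_mul, (QuotientGroup.eq_one_iff _).2 hneg, one_mul, QuotientGroup.mk_div,
        hA, div_mul_cancel]
    rw [e2]
    conv_rhs => rw [← e3]
    rw [T.chi_mul]
  · rw [if_neg hA, if_neg (fun h => hA ?_), zero_mul, zero_mul]
    exact div_right_injective h

/-- At a nonzero point, two rows agree with a coset relation. -/
theorem eval_sub {a : ℕ} {K0 : (ZMod p)ˣ ⧸ T.H} {w1 w2 : ι} (h12 : w1 ≠ w2)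
    (hc1 : ∀ m, (T.C w1 m : ℤ) = T.chi K0 m) (hc2 : ∀ m, (T.C w2 m : ℤ) = T.chi K0 m)
    (hs1 : T.s w1 = a) (hs2 : T.s w2 = -(a + 1 : ℤ))
    (hrest : ∀ z, z ≠ w1 → z ≠ w2 → T.s z = 0 ∧ T.C z (K0.out : ZMod p) = 0)
    {g : ZMod p → ℤ} {x0 : ℤ} {x : ι → ℤ} {S c : ℤ} (hS : S = x0 + ∑ z, x z * T.s z)
    (hg : ∀ m, g m - x0 * dlt p m - ∑ z, x z * ((T.C z m : ℤ) - T.s z * dlt p m) = c) :
    g (K0.out : ZMod p) - g 0 = x w1 + x w2 - 2 * x0 + S ∧
      S = x0 + a * x w1 - (a + 1) * x w2 := by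
  classical
  have hsum : ∀ F : ι → ℤ, (∀ z, z ≠ w1 → z ≠ w2 → F z = 0) → ∑ z, F z = F w1 + F w2 := fun F hF =>
    (Fintype.sum_eq_add w1 w2 h12 fun z hz => hF z hz.1 hz.2)
  have hS' : S = x0 + a * x w1 - (a + 1) * x w2 := by
    rw [hS, hsum _ fun z h1 h2 => by rw [(hrest z h1 h2).1, mul_zero], hs1, hs2]
    ring
  refine ⟨?_, hS'⟩
  have h0 := hg 0
  have h1 := hg (K0.out : ZMod p)
  have hne : ((K0.out : (ZMod p)ˣ) : ZMod p) ≠ 0 := Units.ne_zero _
  have hchi : T.chi K0 (K0.out : ZMod p) = 1 := by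
    rw [T.chi_unit, QuotientGroup.out_eq', if_pos rfl]
  simp only [dlt, if_pos, hne, if_false, T.C_zero, Nat.cast_zero, mul_zero, sub_zero, zero_sub,
    mul_one, mul_neg, sum_neg_distrib] at h0 h1
  rw [hsum _ fun z z1 z2 => by
    rw [(hrest z z1 z2).2, Nat.cast_zero, mul_zero], hc1, hc2, hchi] at h1
  have : ∑ z, x z * T.s z = S - x0 := by rw [hS]; ring
  rw [this] at h0
  linear_combination h1 - h0

/-- A table has only two orbitals. -/
theorem index_eq_one : T.H.index = 1 := by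
  classical
  obtain ⟨a, ha, hae, hs⟩ := T.exists_a
  have hcard := T.card_ones ha hs
  by_contra hne
  have hidx : 2 ≤ T.H.index := by
    have : 0 < T.H.index := Nat.pos_of_ne_zero Subgroup.index_ne_zero_of_finite
    omega
  obtain ⟨w1, w2, h12, hw⟩ := card_eq_two.1 hcard
  have hw1 : w1 ∈ T.ones := by rw [hw]; simp
  have hw2 : w2 ∈ T.ones := by rw [hw]; simp
  have hother : ∀ z, z ≠ w1 → z ≠ w2 → z ∉ T.ones := fun z h1 h2 => by rw [hw]; simp [h1, h2]
  obtain ⟨K1, hK1, hK1'⟩ := T.exists_coset hw1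
  obtain ⟨K2, hK2, hK2'⟩ := T.exists_coset hw2
  -- the two cosets agree
  have hcol : ∀ K : (ZMod p)ˣ ⧸ T.H, ∑ u, T.cnt u K = 2 := fun K => T.sum_C _ (Units.ne_zero _)
  have h12K : K1 = K2 := by
    by_contra hK
    have h := hcol K1
    rw [← add_sum_erase _ _ (mem_univ w1), hK1] at h
    obtain ⟨z, hz, hz0⟩ : ∃ z ∈ univ.erase w1, T.cnt z K1 ≠ 0 :=
      exists_ne_zero_of_sum_ne_zero (by omega)
    have hz1 := (mem_erase.1 hz).1
    have hz2 : z ≠ w2 := fun e => hz0 (e ▸ hK2' K1 hK)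
    obtain ⟨⟨K, hK', hK''⟩, -, -⟩ := T.double ha hae hs hcard (hother z hz1 hz2)
    have hKK : K = K1 := by
      by_contra h'
      exact hz0 (hK'' K1 (Ne.symm h'))
    subst hKK
    have := single_le_sum (f := fun u => T.cnt u K) (fun u _ => Nat.zero_le _) hz
    simp only [hK'] at this
    omega
  subst h12K
  have hc1 : ∀ m, (T.C w1 m : ℤ) = T.chi K1 m := fun m => by
    rw [T.C_eq_chi hK1 hK1', Nat.cast_one, one_mul]
  have hc2 : ∀ m, (T.C w2 m : ℤ) = T.chi K1 m := fun m => by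
    rw [T.C_eq_chi hK2 hK2', Nat.cast_one, one_mul]
  -- the two parameters differ
  have hsne : T.s w1 ≠ T.s w2 := fun e => h12 (T.inj _ _ e (funext fun m => by
    exact_mod_cast (hc1 m).trans (hc2 m).symm))
  -- orient
  obtain ⟨u, v, huv, hu, hv, hcu, hcv, hsu, hsv, huvw⟩ : ∃ u v, u ≠ v ∧ u ∈ T.ones ∧ v ∈ T.ones ∧
      (∀ m, (T.C u m : ℤ) = T.chi K1 m) ∧ (∀ m, (T.C v m : ℤ) = T.chi K1 m) ∧ T.s u = a ∧
      T.s v = -(a + 1 : ℤ) ∧ ∀ z, z ≠ u → z ≠ v → z ∉ T.ones := by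
    rcases hs w1 hw1 with e1 | e1
    · exact ⟨w1, w2, h12, hw1, hw2, hc1, hc2, e1,
        (hs w2 hw2).resolve_left fun e => hsne (e1.trans e.symm), hother⟩
    · exact ⟨w2, w1, h12.symm, hw2, hw1, hc2, hc1,
        (hs w2 hw2).resolve_right fun e => hsne (e1.trans e.symm), e1,
        fun z h1 h2 => hother z h2 h1⟩
  -- the others have `s = 0`
  have hq1 : T.q u + T.q v = 1 := by
    rw [T.q_pos_case hu hsu, T.q_neg_case hv hsv, ← add_div, div_eq_one_iff_eq (by positivity)]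
    ring
  have hz0 : ∀ z, z ≠ u → z ≠ v → T.s z = 0 := fun z h1 h2 => T.q_eq_zero <| by
    have hle : T.q z + (T.q u + T.q v) ≤ 1 := by
      rw [← sum_pair huv, ← sum_insert (by simp [h1, h2] : z ∉ ({u, v} : Finset ι))]
      exact T.sum_q ▸ sum_le_univ_sum_of_nonneg T.q_nonneg
    linarith [T.q_nonneg z]
  have hcoset : ∀ z, z ≠ u → z ≠ v → ∃ K, K ≠ K1 ∧ ∀ m, (T.C z m : ℤ) = 2 * T.chi K m := by
    intro z h1 h2
    obtain ⟨⟨K, hK, hK'⟩, -, -⟩ := T.double ha hae hs hcard (huvw z h1 h2)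
    refine ⟨K, fun e => ?_, fun m => by rw [T.C_eq_chi hK hK']; norm_num⟩
    subst e
    have h := hcol K
    have h3 : ∑ w ∈ ({u, v, z} : Finset ι), T.cnt w K ≤ ∑ w, T.cnt w K :=
      sum_le_univ_sum_of_nonneg fun w => Nat.zero_le _
    rw [sum_insert (by simp [huv, Ne.symm h1]), sum_pair (Ne.symm h2)] at h3
    have hu1 : (T.cnt u K : ℤ) = 1 := by
      rw [cnt, hcu, T.chi_unit, QuotientGroup.out_eq', if_pos rfl]
    have hv1 : (T.cnt v K : ℤ) = 1 := by
      rw [cnt, hcv, T.chi_unit, QuotientGroup.out_eq', if_pos rfl]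
    omega
  have hrest : ∀ z, z ≠ u → z ≠ v →
      T.s z = 0 ∧ T.C z (K1.out : ZMod p) = 0 := fun z h1 h2 => by
    refine ⟨hz0 z h1 h2, ?_⟩
    obtain ⟨K, hK, hC⟩ := hcoset z h1 h2
    have := hC ((K1.out : (ZMod p)ˣ) : ZMod p)
    rw [T.chi_unit, QuotientGroup.out_eq', if_neg (Ne.symm hK)] at this
    omega
  -- every other coset is met doubly
  have hex : ∀ K, K ≠ K1 → ∃ z, z ≠ u ∧ z ≠ v ∧ ∀ m, (T.C z m : ℤ) = 2 * T.chi K m := by
    intro K hK
    obtain ⟨z, -, hz⟩ : ∃ z ∈ univ, T.cnt z K ≠ 0 :=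
      exists_ne_zero_of_sum_ne_zero (by rw [hcol K]; omega)
    have h1 : z ≠ u := fun e => hz (by
      have : (T.cnt u K : ℤ) = 0 := by rw [cnt, hcu, T.chi_unit, QuotientGroup.out_eq', if_neg hK]
      rw [e]; omega)
    have h2 : z ≠ v := fun e => hz (by
      have : (T.cnt v K : ℤ) = 0 := by rw [cnt, hcv, T.chi_unit, QuotientGroup.out_eq', if_neg hK]
      rw [e]; omega)
    obtain ⟨K', hK', hC⟩ := hcoset z h1 h2
    refine ⟨z, h1, h2, ?_⟩
    suffices K' = K by subst this; exact hC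
    by_contra hne'
    apply hz
    have := hC ((K.out : (ZMod p)ˣ) : ZMod p)
    rw [T.chi_unit, QuotientGroup.out_eq', if_neg (Ne.symm hne')] at this
    unfold cnt
    omega
  set M : ℤ := 2 * a + 1 with hM
  have hMcop : ∀ n : ℤ, M ∣ 2 * n → M ∣ n := fun n h =>
    ⟨n - a * (h.choose), by have := h.choose_spec; linear_combination -(a : ℤ) * this⟩
  have hcm : ((K1.out : (ZMod p)ˣ) : (ZMod p)ˣ ⧸ T.H) = K1 := QuotientGroup.out_eq' K1
  have hne0 : ((K1.out : (ZMod p)ˣ) : ZMod p) ≠ 0 := Units.ne_zero _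
  have hd0 : dlt p 0 = 1 := if_pos rfl
  -- a double row against the row of `u`
  have hKa : ∀ K, K ≠ K1 → M ∣ conv (T.chi K) (T.chi K1) (K1.out : ZMod p) -
      conv (T.chi K) (T.chi K1) 0 := by
    intro K hK
    obtain ⟨z, h1, h2, hC⟩ := hex K hK
    obtain ⟨x0, x, hS, c, hg⟩ := T.mul z u
    rw [hz0 z h1 h2, zero_mul] at hS
    have hconv : ∀ m, conv (fun b => (T.C z b : ℤ) - T.s z * dlt p b)
        (fun b => (T.C u b : ℤ) - T.s u * dlt p b) m =
        2 * conv (T.chi K) (T.chi K1) m - 2 * a * T.chi K m := fun m => by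
      rw [show (fun b => (T.C z b : ℤ) - T.s z * dlt p b) = fun b => 2 * T.chi K b from
        funext fun b => by rw [hC, hz0 z h1 h2, zero_mul, sub_zero],
        show (fun b => (T.C u b : ℤ) - T.s u * dlt p b) = fun b => 1 * T.chi K1 b - a * dlt p b from
        funext fun b => by rw [hcu, hsu, one_mul], T.conv_expand]
      ring
    simp only [hconv] at hg
    obtain ⟨e1, e2⟩ := T.eval_sub huv hcu hcv hsu hsv hrest hS hg
    simp only [T.chi_zero, T.chi_unit, hcm, if_neg (Ne.symm hK), mul_zero, sub_zero] at e1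
    refine hMcop _ ⟨x u - x v, ?_⟩
    rw [hM]
    linear_combination e1 + 2 * e2
  obtain ⟨K, hK⟩ : ∃ K : (ZMod p)ˣ ⧸ T.H, K ≠ K1 := by
    by_contra h
    push Not at h
    haveI : Subsingleton ((ZMod p)ˣ ⧸ T.H) := ⟨fun A B => (h A).trans (h B).symm⟩
    exact hne (Nat.card_of_subsingleton (1 : (ZMod p)ˣ ⧸ T.H))
  have hp2 : p ≠ 2 := fun h => by
    subst h
    have h1 := T.H.index_dvd_card
    rw [Nat.card_eq_fintype_card, ZMod.card_units] at h1
    have := Nat.le_of_dvd (by omega) h1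
    omega
  have hneg : (-1 : (ZMod p)ˣ) ∈ T.H := T.neg_one_mem <| by
    rw [even_iff_two_dvd, ← Int.natCast_dvd_natCast, hae]
    exact ⟨_, rfl⟩
  obtain ⟨z, h1, h2, hC⟩ := hex K hK
  obtain ⟨x0, x, hS, c, hg⟩ := T.mul z z
  rw [hz0 z h1 h2, zero_mul] at hS
  have hconv : ∀ m, conv (fun b => (T.C z b : ℤ) - T.s z * dlt p b)
      (fun b => (T.C z b : ℤ) - T.s z * dlt p b) m = 4 * conv (T.chi K) (T.chi K) m := fun m => by
    rw [show (fun b => (T.C z b : ℤ) - T.s z * dlt p b) = fun b => 2 * T.chi K b from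
      funext fun b => by rw [hC, hz0 z h1 h2, zero_mul, sub_zero], conv, conv, mul_sum]
    exact sum_congr rfl fun b _ => by ring
  simp only [hconv] at hg
  obtain ⟨e1, e2⟩ := T.eval_sub huv hcu hcv hsu hsv hrest hS hg
  have hKK : M ∣ conv (T.chi K) (T.chi K) (K1.out : ZMod p) - conv (T.chi K) (T.chi K) 0 := by
    refine hMcop _ (hMcop _ ⟨x u - x v, ?_⟩)
    rw [hM]
    linear_combination e1 + 2 * e2
  -- the value at zero
  have hzero : ∀ A B : (ZMod p)ˣ ⧸ T.H,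
      conv (T.chi A) (T.chi B) 0 = if A = B then (Nat.card T.H : ℤ) else 0 := fun A B => by
    rw [conv, Table.sum_units _ (by rw [T.chi_zero, zero_mul])]
    have : ∀ b : (ZMod p)ˣ, T.chi A (b : ZMod p) * T.chi B (0 - (b : ZMod p)) =
        (fun C : (ZMod p)ˣ ⧸ T.H => if C = A ∧ C = B then (1 : ℤ) else 0) (b : (ZMod p)ˣ ⧸ T.H) := fun b => by
      rw [zero_sub, ← Units.val_neg, T.chi_unit, T.chi_unit, ← neg_one_mul b, QuotientGroup.mk_mul,
        (QuotientGroup.eq_one_iff _).2 hneg, one_mul]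
      by_cases c1 : (b : (ZMod p)ˣ ⧸ T.H) = A <;> by_cases c2 : (b : (ZMod p)ˣ ⧸ T.H) = B <;>
        simp [c1, c2]
    rw [sum_congr rfl fun b _ => this b,
      T.sum_cosets (fun C : (ZMod p)ˣ ⧸ T.H => if C = A ∧ C = B then (1 : ℤ) else 0), sum_boole,
      nsmul_eq_mul]
    split_ifs with h
    · rw [show univ.filter (fun C : (ZMod p)ˣ ⧸ T.H => C = A ∧ C = B) = {A} by
        ext C; simp [h], card_singleton, Nat.cast_one, mul_one]
    · rw [show univ.filter (fun C : (ZMod p)ˣ ⧸ T.H => C = A ∧ C = B) = ∅ by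
        ext C; simp only [mem_filter, mem_univ, true_and, notMem_empty, iff_false]
        rintro ⟨rfl, hB⟩; exact h hB, card_empty, Nat.cast_zero, mul_zero]
  have hK' : K1 * K1 / K ≠ K1 := fun e => hK (by
    rw [div_eq_iff_eq_mul, mul_left_cancel_iff] at e
    exact e.symm)
  have hswap := T.conv_swap hneg K K1.out
  rw [hcm] at hswap
  have h4 := hKa _ hK'
  rw [hzero, if_neg hK', sub_zero, ← hswap] at h4
  rw [hzero, if_pos rfl] at hKK
  have h5 : M ∣ (Nat.card T.H : ℤ) := by simpa using dvd_sub h4 hKK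
  rw [hae] at h5
  obtain ⟨w, hw'⟩ := h5
  have h6 : M ∣ 1 := ⟨M - 2 * w, by rw [hM] at hw' ⊢; linear_combination -2 * hw'⟩
  have h7 := Int.le_of_dvd one_pos h6
  omega

/-- The shape of a table. -/
theorem conclusion : ∃ a : ℕ, 0 < a ∧ p = 2 * a ^ 2 + 2 * a + 1 ∧ Fintype.card ι = 2 ∧
    ∀ u, T.k u = a * (2 * a + 1) ∨ T.k u = (a + 1) * (2 * a + 1) := by
  classical
  obtain ⟨a, ha, hae, hs⟩ := T.exists_a
  have hidx := T.index_eq_one
  have he : Nat.card T.H = p - 1 := by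
    rw [← T.H.index_mul_card.trans ((Nat.card_eq_fintype_card).trans (ZMod.card_units p)), hidx,
      one_mul]
  have h2 : Fintype.card ι = 2 := by rw [T.card_eq, hidx]
  have hall : ∀ u, u ∈ T.ones := fun u => by
    rw [eq_univ_of_card T.ones (le_antisymm (card_le_univ _) (h2 ▸ T.two_le_card_ones))]
    exact mem_univ _
  refine ⟨a, ha, ?_, h2, fun u => ?_⟩
  · have hp := (Fact.out : p.Prime).one_le
    have h3 : (Nat.card T.H : ℤ) + 1 = p := by rw [he]; omega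
    rw [hae] at h3
    have h4 : ((2 * a ^ 2 + 2 * a + 1 : ℕ) : ℤ) = p := by push_cast; linarith
    exact_mod_cast h4.symm
  · obtain ⟨-, hk, -, -⟩ := T.one_spec (hall u)
    rcases hs u (hall u) with e | e <;> rw [e] at hk
    · left
      have : (T.k u : ℤ) = ((a * (2 * a + 1) : ℕ) : ℤ) := by push_cast; linarith
      exact_mod_cast this
    · right
      have : (T.k u : ℤ) = (((a + 1) * (2 * a + 1) : ℕ) : ℤ) := by push_cast; linarith
      exact_mod_cast this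

end Table

end Cfsg.Agent.PrimeBlock.DoubleDegree
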